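/-
An element of order five of the coordinate permutations, a permutation squaring it, and elements
commuting with it.
-/
import Cfsg.Agent.Lib.MonsterQ.Five.Data
import Cfsg.Agent.Lib.MonsterQ.Seven.Linear

set_option autoImplicit false
set_option maxRecDepth 100000
set_option linter.unusedSectionVars false
set_option linter.style.haveILetI false

namespace CfsgLib.MonsterQ.Five

open Cfsg CfsgGolay CfsgLeech CfsgLeech.Models CfsgCoTwoOut
open CfsgLib.MonsterQ.Seven (axN eqB el_eq el_append el_nil wordOK_append word_perm perm_apply')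
open scoped Pointwise

attribute [local irreducible] codeL octadL dodecadL slpCodes

/-- The permutation of a code and of its inverse. -/
def permOf (c d : ℕ) (h₁ : ∀ i : GolayPt, pt (papp d (idx (pt (papp c (idx i))))) = i)
    (h₂ : ∀ i : GolayPt, pt (papp c (idx (pt (papp d (idx i))))) = i) : Equiv.Perm GolayPt :=
  ⟨fun i => pt (papp c (idx i)), fun i => pt (papp d (idx i)), h₁, h₂⟩

/-- The permutation of order five. -/
def r5 : Equiv.Perm GolayPt := permOf e5 e5i (by decide +kernel) (by decide +kernel)

/-- A permutation squaring it. -/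
def s5 : Equiv.Perm GolayPt := permOf sqc sqci (by decide +kernel) (by decide +kernel)

theorem repr_all : Repr e5 r5 ∧ Repr e5i r5⁻¹ ∧ Repr sqc s5 := by decide +kernel

theorem repr_r5 : Repr e5 r5 := repr_all.1

theorem codes_checked : gensKept e5 = true ∧ gensKept sqc = true ∧ r5 ^ 5 = 1 ∧ r5 none = none ∧
    r5 (pt 0) ≠ pt 0 ∧ s5 * r5 * s5⁻¹ = r5 ^ 2 := by decide +kernel

theorem mem_r5 : r5 ∈ M24 := mem_M24_of_gensKept repr_r5 codes_checked.1

theorem mem_s5 : s5 ∈ M24 := mem_M24_of_gensKept repr_all.2.2 codes_checked.2.1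

theorem order_r5 : orderOf r5 = 5 := by
  haveI : Fact (Nat.Prime 5) := ⟨by norm_num⟩
  exact orderOf_eq_prime codes_checked.2.2.1 fun h => codes_checked.2.2.2.2.1 (by rw [h]; rfl)

theorem square_conj : s5 * r5 * s5⁻¹ = r5 ^ 2 := codes_checked.2.2.2.2.2

theorem r5_none : r5 none = none := codes_checked.2.2.2.1

attribute [local irreducible] r5 s5

/-- The permutation of order five as an automorphism. -/
noncomputable def p5 : ↥Co0 := permHom ⟨r5, mem_r5⟩

/-- The word of the permutation of order five. -/
def p5W : List Step := [some (e5i, 0)]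

theorem p5W_ok : wordOK p5W = true := by decide +kernel

theorem el_p5W : el p5W = p5 := word_perm (σ := ⟨r5, mem_r5⟩) p5W_ok repr_all.2.1

theorem order_p5 : orderOf p5 = 5 := by
  rw [p5, orderOf_injective permHom permHom_injective, ← Subgroup.orderOf_coe]
  exact order_r5

theorem p5_pow_five : p5 ^ 5 = 1 := by rw [← order_p5, pow_orderOf_eq_one]

theorem p5_ne : p5 ≠ 1 := fun h => by
  have := order_p5
  rw [h, orderOf_one] at this
  norm_num at this

theorem p5_eq : ∃ τ : ↥M24, τ.1 = r5 ∧ p5 = permHom τ := ⟨⟨r5, mem_r5⟩, rfl, rfl⟩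

theorem p5_apply (v : ↥leechLattice) (i : GolayPt) :
    ((p5 • v : ↥leechLattice) : GolayPt → ℤ) (r5 i) = (v : GolayPt → ℤ) i :=
  perm_apply' ⟨r5, mem_r5⟩ r5 rfl p5 rfl v i

theorem p5_ax : Cg (p5 • ax none) (ax none) := by
  have h : p5 ∈ modStab (ax none) := by
    rw [modStab_ax]; exact monoAut_keeps mem_r5 CW_empty
  exact h

/-- An automorphism inducing the square. -/
theorem exists_square : ∃ g : ↥Co0, g * p5 * g⁻¹ = p5 ^ 2 := by
  obtain ⟨τ, hτ, hp⟩ := p5_eq
  refine ⟨permHom ⟨s5, mem_s5⟩, ?_⟩
  rw [hp, ← map_inv, ← map_mul, ← map_mul, ← map_pow]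
  refine congrArg _ (Subtype.ext ?_)
  simp only [Subgroup.coe_mul, Subgroup.coe_inv, SubgroupClass.coe_pow, hτ]
  exact square_conj

/-- Elements commuting with the permutation of order five modulo the centre commute with it. -/
theorem exact_rel {g q : ↥Co0} (hq : orderOf q = 5)
    (h : (QuotientGroup.mk (g * p5 * g⁻¹) : Spor.Co1) = QuotientGroup.mk q) : g * p5 * g⁻¹ = q := by
  rcases center_eq (QuotientGroup.eq.1 h) with e | e
  · exact (inv_mul_eq_one.mp e)
  · exfalso
    rw [inv_mul_eq_iff_eq_mul] at e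
    have h5 : (g * p5 * g⁻¹) ^ 5 = 1 := by
      rw [conj_pow, p5_pow_five, mul_one, mul_inv_cancel]
    have hn : negAut ^ 5 = negAut := by
      have h2 : negAut * negAut = 1 := aut_ext fun v => by
        rw [mul_smul, negAut_apply, negAut_apply, neg_neg, one_smul]
      rw [show (5 : ℕ) = 2 * 2 + 1 from rfl, pow_succ, pow_mul, show negAut ^ 2 = 1 by rw [pow_two, h2], one_pow, one_mul]
    have hc : Commute (g * p5 * g⁻¹) negAut := (Subgroup.mem_center_iff.mp negAut_central _)
    have := congrArg (fun x => x ^ 5) e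
    rw [hc.mul_pow, h5, hn, one_mul, ← hq, pow_orderOf_eq_one] at this
    exact negAut_ne_one this.symm

/-- The word of one of the elements. -/
def gw (k : ℕ) : List Step := gW.getD k []

theorem gw_ok : ((List.range 11).all fun k => wordOK (gw k)) = true := by decide +kernel

theorem gw_checked₁ : ((List.range 6).all fun k => eqB (p5W ++ gw k) (gw k ++ p5W)) = true := by decide +kernel

theorem gw_checked₂ : ((List.range 5).all fun k => eqB (p5W ++ gw (6 + k)) (gw (6 + k) ++ p5W)) = true := by
  decide +kernel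

/-- One of the elements. -/
noncomputable def gE (k : ℕ) : ↥Co0 := el (gw k)

theorem gE_comm {k : ℕ} (hk : k < 11) : gE k * p5 = p5 * gE k := by
  have hw := List.all_eq_true.mp gw_ok k (List.mem_range.mpr hk)
  have hc : eqB (p5W ++ gw k) (gw k ++ p5W) = true := by
    by_cases h : k < 6
    · exact List.all_eq_true.mp gw_checked₁ k (List.mem_range.mpr h)
    · have := List.all_eq_true.mp gw_checked₂ (k - 6) (List.mem_range.mpr (by omega))
      rwa [show 6 + (k - 6) = k by omega] at this
  have h := el_eq (wordOK_append _ _ p5W_ok hw) (wordOK_append _ _ hw p5W_ok) hc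
  rwa [el_append p5W_ok hw, el_append hw p5W_ok, el_p5W] at h

end CfsgLib.MonsterQ.Five
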