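/-
The centraliser of the permutation of order five in M24 has order at most sixty, and it fixes sixteen code words.
-/
import Cfsg.Agent.Lib.MonsterQ.Five.Words

set_option autoImplicit false
set_option maxRecDepth 100000

namespace CfsgLib.MonsterQ.Five

open Cfsg CfsgGolay CfsgLeech

attribute [local irreducible] codeL octadL dodecadL slpCodes r5

/-- The orbit of a point. -/
def cls (k : ℕ) : ℕ := clsL.getD k 0

/-- The distance from the representative. -/
def stp (k : ℕ) : ℕ := stepL.getD k 0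

/-- The representative of an orbit. -/
def rep (j : ℕ) : ℕ := repL.getD j 0

/-- The codes of the powers. -/
def pw5 (n : ℕ) : ℕ := ppow e5 n

theorem orbit_checked : ((List.range 24).all fun k => Nat.blt (cls k) 8 && Nat.blt (stp k) 5 &&
    Nat.beq (papp (pw5 (stp k)) (rep (cls k))) k && Nat.beq (cls (papp e5 k)) (cls k) &&
    Nat.blt (papp e5 k) 24 &&
    (Nat.beq (papp e5 k) k == Nat.blt (cls k) 4)) = true ∧
    ((List.range 8).all fun j => Nat.blt (rep j) 24 && Nat.beq (cls (rep j)) j && Nat.beq (stp (rep j)) 0) = true := by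
  decide +kernel

theorem orbit_facts {k : ℕ} (hk : k < 24) : cls k < 8 ∧ stp k < 5 ∧ papp (pw5 (stp k)) (rep (cls k)) = k ∧
    cls (papp e5 k) = cls k ∧ papp e5 k < 24 ∧ (papp e5 k = k ↔ cls k < 4) := by
  have h := List.all_eq_true.mp orbit_checked.1 k (List.mem_range.mpr hk)
  simp only [Bool.and_eq_true, Nat.blt_eq, beq_iff_eq] at h
  refine ⟨h.1.1.1.1.1, h.1.1.1.1.2, Nat.eq_of_beq_eq_true h.1.1.1.2, Nat.eq_of_beq_eq_true h.1.1.2, h.1.2, ?_⟩
  have h6 := h.2
  constructor
  · intro e; rw [e, Nat.beq_refl] at h6; exact Nat.blt_eq.mp h6.symm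
  · intro e; rw [Nat.blt_eq.mpr e] at h6; exact Nat.eq_of_beq_eq_true h6

theorem rep_facts5 {j : ℕ} (hj : j < 8) : rep j < 24 ∧ cls (rep j) = j ∧ stp (rep j) = 0 := by
  have h := List.all_eq_true.mp orbit_checked.2 j (List.mem_range.mpr hj)
  simp only [Bool.and_eq_true, Nat.blt_eq] at h
  exact ⟨h.1.1, Nat.eq_of_beq_eq_true h.1.2, Nat.eq_of_beq_eq_true h.2⟩

theorem pw5_apply (n : ℕ) {k : ℕ} (hk : k < 24) : (r5 ^ n) (pt k) = pt (papp (pw5 n) k) :=
  (repr_r5.pow n).apply_pt hk

theorem pt_eq_pow {k : ℕ} (hk : k < 24) : pt k = (r5 ^ stp k) (pt (rep (cls k))) := by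
  obtain ⟨h1, -, h3, -⟩ := orbit_facts hk
  rw [pw5_apply _ (rep_facts5 h1).1, h3]

theorem cls_step (i : GolayPt) : cls (idx (r5 i)) = cls (idx i) := by
  rw [← pt_idx i, repr_r5.apply_pt (idx_lt i), idx_pt (orbit_facts (idx_lt i)).2.2.2.2.1, idx_pt (idx_lt i)]
  exact (orbit_facts (idx_lt i)).2.2.2.1

theorem cls_pow : ∀ (n : ℕ) (i : GolayPt), cls (idx ((r5 ^ n) i)) = cls (idx i)
  | 0, i => by rw [pow_zero]; rfl
  | n + 1, i => by rw [pow_succ', Equiv.Perm.mul_apply, cls_step, cls_pow n i]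

theorem fix_iff_cls (i : GolayPt) : r5 i = i ↔ cls (idx i) < 4 := by
  rw [← (orbit_facts (idx_lt i)).2.2.2.2.2]
  constructor
  · intro h
    have := congrArg idx h
    rwa [← pt_idx i, repr_r5.apply_pt (idx_lt i), idx_pt (orbit_facts (idx_lt i)).2.2.2.2.1, idx_pt (idx_lt i)] at this
  · intro h
    rw [← pt_idx i, repr_r5.apply_pt (idx_lt i), h]

/-- The points of the orbits in a set of orbits. -/
def full (m : ℕ) : ℕ := orBits ((List.range 24).filter fun k => m.testBit (cls k))

/-- The image of a set of orbits. -/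
def qimg (q : List ℕ) (m : ℕ) : ℕ := orBits (((List.range 8).filter fun j => m.testBit j).map fun j => q.getD j 0)

/-- The sets of orbits forming code words. -/
def fixF : List ℕ := (List.range 256).filter fun m => inCode (full m)

/-- All orderings of four orbits. -/
def perms4 (o : ℕ) : List (List ℕ) :=
  ((List.range 4).flatMap fun a => (List.range 4).flatMap fun b => (List.range 4).flatMap fun c =>
    (List.range 4).map fun d => [a, b, c, d]).filterMap fun L =>
      if L.Nodup then some (L.map (o + ·)) else none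

theorem compat_checked : ((perms4 0).all fun a => (perms4 4).all fun b => decide ((a ++ b) ∈ qsL) ||
    !(fixF.all fun m => inCode (full (qimg (a ++ b) m)))) = true := by decide +kernel

theorem perms4_mem : ∀ a < 4, ∀ b < 4, ∀ c < 4, ∀ d < 4, [a, b, c, d].Nodup →
    [a, b, c, d] ∈ perms4 0 ∧ [4 + a, 4 + b, 4 + c, 4 + d] ∈ perms4 4 := by
  intro a ha b hb c hc d hd hnd
  have hm : ∀ o : ℕ, [o + a, o + b, o + c, o + d] ∈ perms4 o := fun o => by
    simp only [perms4, List.mem_filterMap, List.mem_flatMap, List.mem_map, List.mem_range]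
    exact ⟨[a, b, c, d], ⟨a, ha, b, hb, c, hc, d, hd, rfl⟩, by rw [if_pos hnd]; rfl⟩
  exact ⟨by simpa using hm 0, hm 4⟩

theorem perms4_mem' {L : List ℕ} {o : ℕ} (ho : o = 0 ∨ o = 4) (hl : L.length = 4) (hnd : L.Nodup)
    (hlt : ∀ x ∈ L, o ≤ x ∧ x < o + 4) : L ∈ perms4 o := by
  match L, hl with
  | [a, b, c, d], _ =>
    simp only [List.mem_cons, List.not_mem_nil, or_false, forall_eq_or_imp, forall_eq] at hlt
    rcases ho with rfl | rfl
    · exact (perms4_mem a (by omega) b (by omega) c (by omega) d (by omega) hnd).1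
    · obtain ⟨a, rfl⟩ : ∃ t, a = 4 + t := ⟨a - 4, by omega⟩
      obtain ⟨b, rfl⟩ : ∃ t, b = 4 + t := ⟨b - 4, by omega⟩
      obtain ⟨c, rfl⟩ : ∃ t, c = 4 + t := ⟨c - 4, by omega⟩
      obtain ⟨d, rfl⟩ : ∃ t, d = 4 + t := ⟨d - 4, by omega⟩
      refine (perms4_mem a (by omega) b (by omega) c (by omega) d (by omega) ?_).2
      simpa using hnd

/-- The code of a commuting permutation. -/
def candC (q : List ℕ) (s : List ℕ) : ℕ :=
  pack (fun k => papp (pw5 ((stp k + s.getD (cls k) 0) % 5)) (rep (q.getD (cls k) 0))) 24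

/-- The shifts. -/
def shifts : List (List ℕ) :=
  (List.range 5).flatMap fun a => (List.range 5).flatMap fun b => (List.range 5).map fun c =>
    [0, 0, 0, 0, 0, a, b, c]

/-- The candidates with a given action on the orbits. -/
def candsQ (q : List ℕ) : List ℕ := (shifts.map (candC q)).filter gensKept

/-- The candidates. -/
def cands : List ℕ := qsL.flatMap candsQ

theorem cands_count : cands.length ≤ 12 := by decide +kernel

theorem shifts_mem : ∀ a < 5, ∀ b < 5, ∀ c < 5, [0, 0, 0, 0, 0, a, b, c] ∈ shifts := by decide +kernel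

/-- The action on the orbits. -/
def qOf (σ : Equiv.Perm GolayPt) : List ℕ := (List.range 8).map fun j => cls (idx (σ (pt (rep j))))

/-- The shifts of an element. -/
def sOf (σ : Equiv.Perm GolayPt) : List ℕ := (List.range 8).map fun j => stp (idx (σ (pt (rep j))))

theorem getD_map8 (f : ℕ → ℕ) {j : ℕ} (hj : j < 8) : ((List.range 8).map f).getD j 0 = f j := by
  rw [List.getD_eq_getElem _ _ (by rwa [List.length_map, List.length_range]), List.getElem_map, List.getElem_range]

theorem map8 (f : ℕ → ℕ) : (List.range 8).map f = [f 0, f 1, f 2, f 3] ++ [f 4, f 5, f 6, f 7] := rfl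

variable {σ : Equiv.Perm GolayPt} (hσ : σ * r5 = r5 * σ)
include hσ

theorem comm_pow (n : ℕ) (i : GolayPt) : σ ((r5 ^ n) i) = (r5 ^ n) (σ i) := by
  have := ((show Commute σ r5 from hσ).pow_right n).eq
  exact congrArg (fun g : Equiv.Perm GolayPt => g i) this

theorem sigma_pt {k : ℕ} (hk : k < 24) :
    σ (pt k) = (r5 ^ stp k) (σ (pt (rep (cls k)))) := by
  conv_lhs => rw [pt_eq_pow hk, comm_pow hσ]

theorem cls_sigma {k : ℕ} (hk : k < 24) : cls (idx (σ (pt k))) = (qOf σ).getD (cls k) 0 := by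
  rw [qOf, getD_map8 _ (orbit_facts hk).1, sigma_pt hσ hk, cls_pow]

theorem q_split {j : ℕ} (hj : j < 8) : (qOf σ).getD j 0 < 8 ∧ ((qOf σ).getD j 0 < 4 ↔ j < 4) := by
  rw [qOf, getD_map8 _ hj]
  refine ⟨(orbit_facts (idx_lt _)).1, ?_⟩
  rw [← fix_iff_cls]
  have h := comm_pow hσ 1 (pt (rep j))
  rw [pow_one] at h
  rw [← h, σ.injective.eq_iff, fix_iff_cls, idx_pt (rep_facts5 hj).1, (rep_facts5 hj).2.1]

theorem q_inj {i j : ℕ} (hi : i < 8) (hj : j < 8) (h : (qOf σ).getD i 0 = (qOf σ).getD j 0) : i = j := by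
  rw [qOf, getD_map8 _ hi, getD_map8 _ hj] at h
  obtain ⟨u, hu⟩ : ∃ u, u = σ (pt (rep i)) := ⟨_, rfl⟩
  obtain ⟨w, hw⟩ : ∃ w, w = σ (pt (rep j)) := ⟨_, rfl⟩
  rw [← hu, ← hw] at h
  have eu := pt_eq_pow (idx_lt u)
  have ew := pt_eq_pow (idx_lt w)
  rw [pt_idx] at eu ew
  rw [h] at eu
  set a := stp (idx u); set b := stp (idx w)
  set r := pt (rep (cls (idx w)))
  have e : (r5 ^ b) u = (r5 ^ a) w := by
    rw [eu, ew, ← Equiv.Perm.mul_apply, ← Equiv.Perm.mul_apply, ← pow_add, ← pow_add, add_comm b a]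
  rw [hu, hw, ← comm_pow hσ, ← comm_pow hσ, σ.injective.eq_iff] at e
  have := congrArg (fun t => cls (idx t)) e
  rwa [cls_pow, cls_pow, idx_pt (rep_facts5 hi).1, idx_pt (rep_facts5 hj).1, (rep_facts5 hi).2.1,
    (rep_facts5 hj).2.1] at this

theorem q_mem (hM : σ ∈ M24) : qOf σ ∈ qsL := by
  classical
  have ha : ((List.range 4).map fun j => cls (idx (σ (pt (rep j))))) ∈ perms4 0 := by
    refine perms4_mem' (Or.inl rfl) (by simp) ?_ ?_
    · refine List.Nodup.map_on (fun i hi j hj he => ?_) List.nodup_range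
      refine q_inj hσ (by have := List.mem_range.mp hi; omega) (by have := List.mem_range.mp hj; omega) ?_
      rw [qOf, getD_map8 _ (by have := List.mem_range.mp hi; omega), getD_map8 _ (by have := List.mem_range.mp hj; omega)]
      exact he
    · intro x hx
      obtain ⟨j, hj, rfl⟩ := List.mem_map.mp hx
      have hj := List.mem_range.mp hj
      have := (q_split hσ (show j < 8 by omega)).2
      rw [qOf, getD_map8 _ (by omega)] at this
      exact ⟨Nat.zero_le _, this.mpr hj⟩
  have hb : ((List.range 4).map fun j => cls (idx (σ (pt (rep (4 + j)))))) ∈ perms4 4 := by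
    refine perms4_mem' (Or.inr rfl) (by simp) ?_ ?_
    · refine List.Nodup.map_on (fun i hi j hj he => ?_) List.nodup_range
      have := q_inj hσ (i := 4 + i) (j := 4 + j) (by have := List.mem_range.mp hi; omega)
        (by have := List.mem_range.mp hj; omega) (by
          rw [qOf, getD_map8 _ (by have := List.mem_range.mp hi; omega),
            getD_map8 _ (by have := List.mem_range.mp hj; omega)]
          exact he)
      omega
    · intro x hx
      obtain ⟨j, hj, rfl⟩ := List.mem_map.mp hx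
      have hj := List.mem_range.mp hj
      obtain ⟨h8, h4⟩ := q_split hσ (show 4 + j < 8 by omega)
      rw [qOf, getD_map8 _ (by omega)] at h4 h8
      have : ¬ cls (idx (σ (pt (rep (4 + j))))) < 4 := fun h => by have := h4.mp h; omega
      omega
  have h := List.all_eq_true.mp (List.all_eq_true.mp compat_checked _ ha) _ hb
  have hq : ((List.range 4).map fun j => cls (idx (σ (pt (rep j))))) ++
      ((List.range 4).map fun j => cls (idx (σ (pt (rep (4 + j)))))) = qOf σ := rfl
  rw [hq, Bool.or_eq_true, decide_eq_true_eq, Bool.not_eq_true'] at h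
  rcases h with h | h
  · exact h
  exfalso
  refine Bool.eq_false_iff.mp h (List.all_eq_true.mpr fun m hm => ?_)
  have hm' := (List.mem_filter.mp hm).2
  have hC : toSet (full m) ∈ CW := toSet_mem_CW (by
    rw [Bool.and_eq_true, decide_eq_true_eq]
    exact ⟨orBits_lt fun i hi => List.mem_range.mp (List.mem_filter.mp hi).1, hm'⟩)
  obtain ⟨w, hw, hwe⟩ := image_mem_supports hM hC
  have hset : (toSet (full m)).image σ = toSet (full (qimg (qOf σ) m)) := by
    ext p
    simp only [Finset.mem_image, mem_toSet, full, testBit_orBits, List.mem_filter, List.mem_range, idx_lt, true_and]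
    constructor
    · rintro ⟨i, hi, rfl⟩
      rw [qimg, testBit_orBits, List.mem_map]
      refine ⟨cls (idx i), List.mem_filter.mpr ⟨List.mem_range.mpr (orbit_facts (idx_lt i)).1, hi⟩, ?_⟩
      have := cls_sigma hσ (idx_lt i)
      rw [pt_idx] at this
      exact this.symm
    · intro hp
      rw [qimg, testBit_orBits, List.mem_map] at hp
      obtain ⟨j, hj, he⟩ := hp
      obtain ⟨hj8, hjm⟩ := List.mem_filter.mp hj
      refine ⟨σ.symm p, ?_, Equiv.apply_symm_apply σ p⟩
      have := cls_sigma hσ (idx_lt (σ.symm p))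
      rw [pt_idx, Equiv.apply_symm_apply] at this
      rw [← q_inj hσ (List.mem_range.mp hj8) (orbit_facts (idx_lt (σ.symm p))).1 (he.trans this)]
      exact hjm
  have hlt : full (qimg (qOf σ) m) < 2 ^ 24 := orBits_lt fun i hi => List.mem_range.mp (List.mem_filter.mp hi).1
  rw [← eq_of_toSet_eq (toMask_lt _) hlt ((toSet_toMask _).trans hset)]
  rw [← hwe]
  exact inCode_of_mem hw

theorem code_repr : Repr (candC (qOf σ) (sOf σ)) σ := by
  intro i
  rw [candC, (pack_spec (fun k => papp (pw5 ((stp k + (sOf σ).getD (cls k) 0) % 5)) (rep ((qOf σ).getD (cls k) 0))) (fun _ => Nat.mod_lt _ (by norm_num)) 24).2 _ (idx_lt i), sOf, qOf,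
    getD_map8 _ (orbit_facts (idx_lt i)).1, getD_map8 _ (orbit_facts (idx_lt i)).1]
  set j := σ (pt (rep (cls (idx i)))) with hj
  have e := sigma_pt hσ (idx_lt i)
  rw [pt_idx, ← hj] at e
  have ej := pt_eq_pow (idx_lt j)
  rw [pt_idx] at ej
  rw [e]
  conv_lhs => rw [ej, ← Equiv.Perm.mul_apply, ← pow_add, ← pow_mod_orderOf, order_r5]
  rw [pw5_apply _ (rep_facts5 (orbit_facts (idx_lt j)).1).1]
  refine idx_pt ?_
  have hr := repr_r5.pow ((stp (idx i) + stp (idx j)) % 5) (pt (rep (cls (idx j))))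
  rw [idx_pt (rep_facts5 (orbit_facts (idx_lt j)).1).1] at hr
  rw [pw5, ← hr]
  exact idx_lt _

theorem code_mem (hM : σ ∈ M24) (h0 : stp (idx (σ (pt (rep 4)))) = 0) : candC (qOf σ) (sOf σ) ∈ cands := by
  classical
  refine List.mem_flatMap.mpr ⟨_, q_mem hσ hM, List.mem_filter.mpr ⟨List.mem_map.mpr ⟨_, ?_, rfl⟩, ?_⟩⟩
  · have hz : ∀ j < 4, stp (idx (σ (pt (rep j)))) = 0 := by
      intro j hj
      have hs := (q_split hσ (show j < 8 by omega)).2.mpr hj
      rw [qOf, getD_map8 _ (by omega)] at hs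
      obtain ⟨u, hu⟩ : ∃ u, u = σ (pt (rep j)) := ⟨_, rfl⟩
      rw [← hu] at hs ⊢
      have hfix := (fix_iff_cls u).mpr hs
      have hk : ∀ k < 24, cls k < 4 → stp k = 0 := by decide +kernel
      exact hk _ (idx_lt u) hs
    rw [sOf, map8, hz 0 (by norm_num), hz 1 (by norm_num), hz 2 (by norm_num), hz 3 (by norm_num), h0]
    exact shifts_mem _ (orbit_facts (idx_lt _)).2.1 _ (orbit_facts (idx_lt _)).2.1 _ (orbit_facts (idx_lt _)).2.1
  · refine List.all_eq_true.mpr fun m hm => ?_
    have hm24 : ∀ m ∈ genMasks, m < 2 ^ 24 ∧ inCode m = true := by decide +kernel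
    have hC : toSet m ∈ CW := toSet_mem_CW (by rw [Bool.and_eq_true, decide_eq_true_eq]; exact hm24 m hm)
    obtain ⟨w, hw, hwe⟩ := image_mem_supports hM hC
    rw [← eq_of_toSet_eq (toMask_lt _) ((code_repr hσ).pmask_lt m)
      ((toSet_toMask _).trans ((code_repr hσ).toSet_pmask m).symm)]
    rw [← hwe]
    exact inCode_of_mem hw

omit hσ in
theorem cent_r5_card : Nat.card ↥(centM r5) ≤ 60 := by
  classical
  let T := {σ : Equiv.Perm GolayPt // σ ∈ centM r5 ∧ stp (idx (σ (pt (rep 4)))) = 0}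
  have hT : Nat.card T ≤ 12 := by
    refine le_trans (Nat.card_le_card_of_injective
      (fun t : T => (⟨candC (qOf t.1) (sOf t.1), code_mem (mem_centM.mp t.2.1).2 (mem_centM.mp t.2.1).1 t.2.2⟩ :
        {c // c ∈ cands})) ?_) ?_
    · intro a b h
      have hc := congrArg Subtype.val h
      have ha := code_repr (mem_centM.mp a.2.1).2
      have hb := code_repr (mem_centM.mp b.2.1).2
      simp only at hc
      rw [hc] at ha
      exact Subtype.ext (ha.unique hb)
    · calc Nat.card {c // c ∈ cands} ≤ Nat.card (Fin cands.length) :=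
            Nat.card_le_card_of_surjective (fun i => ⟨cands[i.val], List.getElem_mem _⟩) fun ⟨c, hc⟩ => by
              obtain ⟨n, hn, rfl⟩ := List.getElem_of_mem hc
              exact ⟨⟨n, hn⟩, rfl⟩
        _ ≤ 12 := by rw [Nat.card_fin]; exact cands_count
  have hex : ∀ σ : ↥(centM r5), ∃ t : Fin 5 × T, (σ : Equiv.Perm GolayPt) = r5 ^ (t.1 : ℕ) * t.2.1 := by
    rintro ⟨σ, hσ⟩
    obtain ⟨hM, hc⟩ := mem_centM.mp hσ
    set u := σ (pt (rep 4)) with hu
    refine ⟨(⟨stp (idx u), (orbit_facts (idx_lt u)).2.1⟩,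
      ⟨(r5 ^ stp (idx u))⁻¹ * σ, mul_mem (inv_mem (pow_mem (mem_centM.mpr ⟨mem_r5, rfl⟩) _)) hσ, ?_⟩), ?_⟩
    · rw [Equiv.Perm.mul_apply, ← hu]
      have e := pt_eq_pow (idx_lt u)
      rw [pt_idx] at e
      generalize stp (idx u) = a at e ⊢
      conv_lhs => rw [e]
      rw [← Equiv.Perm.mul_apply, inv_mul_cancel, Equiv.Perm.one_apply]
      obtain ⟨h8, -, -⟩ := orbit_facts (idx_lt u)
      rw [idx_pt (rep_facts5 h8).1]
      exact (rep_facts5 h8).2.2
    · simp
  choose t ht using hex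
  calc Nat.card ↥(centM r5) ≤ Nat.card (Fin 5 × T) := Nat.card_le_card_of_injective t fun a b h =>
        Subtype.ext (by rw [ht a, ht b, h])
    _ ≤ 60 := by rw [Nat.card_prod, Nat.card_fin]; omega

omit hσ in
theorem fixF_count : fixF.length ≤ 16 := by decide +kernel

omit hσ in
theorem fixed_CW_card : Nat.card {c : Finset GolayPt // c ∈ CW ∧ ∀ i, (r5 i ∈ c ↔ i ∈ c)} ≤ 16 := by
  classical
  let enc : Finset GolayPt → ℕ := fun c => orBits ((List.range 8).filter fun j => decide (pt (rep j) ∈ c))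
  have hrep : ∀ c : Finset GolayPt, (∀ i, r5 i ∈ c ↔ i ∈ c) → ∀ k < 24,
      ((enc c).testBit (cls k) = true ↔ pt k ∈ c) := by
    intro c hc k hk
    have hn : ∀ n (i : GolayPt), (r5 ^ n) i ∈ c ↔ i ∈ c := by
      intro n
      induction n with
      | zero => intro i; rw [pow_zero]; rfl
      | succ n ih => intro i; rw [pow_succ', Equiv.Perm.mul_apply, hc, ih]
    rw [show pt k = _ from pt_eq_pow hk, hn]
    simp [enc, testBit_orBits, (orbit_facts hk).1]
  calc Nat.card {c : Finset GolayPt // c ∈ CW ∧ ∀ i, (r5 i ∈ c ↔ i ∈ c)} ≤ Nat.card ↥fixF.toFinset := by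
        refine Nat.card_le_card_of_injective (fun c => ⟨enc c.1, ?_⟩) ?_
        · obtain ⟨c, hcw, hc⟩ := c
          refine List.mem_toFinset.mpr (List.mem_filter.mpr ⟨List.mem_range.mpr
            (show enc c < 2 ^ 8 from orBits_lt fun i hi => List.mem_range.mp (List.mem_filter.mp hi).1), ?_⟩)
          have hmask : full (enc c) = toMask c := by
            rw [toMask, full]
            refine congrArg orBits (List.filter_congr fun k hk => Bool.eq_iff_iff.mpr ?_)
            rw [hrep c hc k (List.mem_range.mp hk), decide_eq_true_eq]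
          obtain ⟨w, hw, rfl⟩ := hcw
          rw [hmask]
          exact inCode_of_mem hw
        · rintro ⟨c, hcw, hc⟩ ⟨c', hcw', hc'⟩ he
          have he' : enc c = enc c' := congrArg Subtype.val he
          refine Subtype.ext (Finset.ext fun i => ?_)
          rw [← pt_idx i, ← hrep c hc _ (idx_lt i), ← hrep c' hc' _ (idx_lt i), he']
    _ ≤ 16 := by rw [Nat.card_eq_finsetCard]; exact (List.toFinset_card_le _).trans fixF_count

end CfsgLib.MonsterQ.Five
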