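/-
The classes modulo twice the lattice fixed by the permutation of order five: a space of dimension eight
on which the inner product is non-degenerate.
-/
import Cfsg.Agent.Lib.MonsterQ.Five.Cent
import Cfsg.Agent.Lib.Leech.Pairs

set_option autoImplicit false
set_option maxRecDepth 100000

namespace CfsgLib.MonsterQ.Five

open Cfsg CfsgGolay CfsgLeech CfsgLeech.Models CfsgCoTwoOut
open CfsgLib.MonsterQ.Seven (Cg_add Cg_double congB congB_sound axN ip ip_comm ip_add ip_zero ip_cg ip_cg_right)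
open scoped Pointwise

attribute [local irreducible] codeL octadL dodecadL slpCodes r5

/-! ### The basis -/


/-- The vectors of the basis. -/
def ev' (j : ℕ) : ↥leechLattice := vecL (eL.getD j 0)

/-- The sum of the chosen vectors of the basis. -/
def sub (m : ℕ) : ↥leechLattice := ((List.range 8).map fun j => cond (m.testBit j) (ev' j) 0).sum

/-- The same, as a function. -/
def subF (m : ℕ) : GolayPt → ℤ := fun i =>
  ((List.range 8).map fun j => cond (m.testBit j) (vecN (eL.getD j 0) i) 0).sum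

theorem eL_lat : ((List.range 8).all fun j => inLatB (vecN (eL.getD j 0))) = true := by decide +kernel

theorem sub_coe (m : ℕ) : ((sub m : ↥leechLattice) : GolayPt → ℤ) = subF m := by
  funext i
  have h : ∀ L : List ℕ, (∀ j ∈ L, inLatB (vecN (eL.getD j 0)) = true) →
      ((((L.map fun j => cond (m.testBit j) (ev' j) 0).sum : ↥leechLattice)) : GolayPt → ℤ) i =
        (L.map fun j => cond (m.testBit j) (vecN (eL.getD j 0) i) 0).sum := by
    intro L
    induction L with
    | nil => intro _; rfl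
    | cons a L ih =>
      intro hL
      simp only [List.map_cons, List.sum_cons, AddSubgroup.coe_add, Pi.add_apply]
      rw [ih fun j hj => hL j (List.mem_cons_of_mem _ hj)]
      cases m.testBit a
      · rfl
      · show ((ev' a : ↥leechLattice) : GolayPt → ℤ) i + _ = _
        rw [ev', vecL_coe (hL a List.mem_cons_self)]
        rfl
  exact h _ fun j hj => List.all_eq_true.mp eL_lat j hj

theorem sub_add (m n : ℕ) : Cg (sub m + sub n) (sub (m ^^^ n)) := by
  have h : ∀ L : List ℕ, Cg ((L.map fun j => cond (m.testBit j) (ev' j) 0).sum +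
      (L.map fun j => cond (n.testBit j) (ev' j) 0).sum)
      (L.map fun j => cond ((m ^^^ n).testBit j) (ev' j) 0).sum := by
    intro L
    induction L with
    | nil => simpa using Cg.refl' (0 : ↥leechLattice)
    | cons a L ih =>
      simp only [List.map_cons, List.sum_cons]
      rw [add_add_add_comm]
      refine Cg_add ?_ ih
      rw [Nat.testBit_xor]
      cases m.testBit a <;> cases n.testBit a <;> simp [Cg.refl', Cg_double]
  exact h _

theorem sub_zero' : sub 0 = 0 :=
  List.sum_eq_zero fun x hx => by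
    obtain ⟨j, -, rfl⟩ := List.mem_map.mp hx
    simp

theorem sub_two_pow {j : ℕ} (hj : j < 8) : sub (2 ^ j) = ev' j := by
  interval_cases j <;> simp [sub, List.range_succ, Nat.testBit, Nat.shiftRight_eq_div_pow]

/-- The classes spanned by the basis. -/
def P : AddSubgroup ↥leechLattice where
  carrier := {x | ∃ m < 256, Cg x (sub m)}
  zero_mem' := ⟨0, by norm_num, by rw [sub_zero']; exact Cg.refl' 0⟩
  add_mem' := by
    rintro a b ⟨m, hm, ha⟩ ⟨n, hn, hb⟩
    exact ⟨m ^^^ n, Nat.xor_lt_two_pow (n := 8) hm hn, (Cg_add ha hb).trans' (sub_add m n)⟩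
  neg_mem' := by
    rintro a ⟨m, hm, ha⟩
    exact ⟨m, hm, (Cg.neg_self a).trans' ha⟩

theorem P_cg {a b : ↥leechLattice} (h : Cg a b) (hb : b ∈ P) : a ∈ P := by
  obtain ⟨m, hm, hb⟩ := hb
  exact ⟨m, hm, h.trans' hb⟩

theorem sub_mem_P {m : ℕ} (hm : m < 256) : sub m ∈ P := ⟨m, hm, Cg.refl' _⟩

theorem ev_mem_P {j : ℕ} (hj : j < 8) : ev' j ∈ P := by
  rw [← sub_two_pow hj]
  exact sub_mem_P ((Nat.pow_lt_pow_right (by norm_num) hj).trans_le (by norm_num))

/-! ### Fixed vectors -/

/-- The vectors generating the fixed vectors. -/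
def gl (k : ℕ) : ↥leechLattice := vecL (glC.getD k 0)

theorem glC_checked : ((List.range 8).all fun k =>
    inLatB (vecN (glC.getD k 0)) && congB (vecN (glC.getD k 0)) (subF (gM.getD k 0)) &&
      Nat.blt (gM.getD k 0) 256) = true := by decide +kernel

theorem gl_mem {k : ℕ} (hk : k < 8) : gl k ∈ P := by
  have h := List.all_eq_true.mp glC_checked k (List.mem_range.mpr hk)
  simp only [Bool.and_eq_true, Nat.blt_eq] at h
  refine ⟨_, h.2, congB_sound ?_⟩
  rw [gl, vecL_coe h.1.1, sub_coe]
  exact h.1.2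

theorem fixed_pow {f : GolayPt → ℤ} (hf : ∀ i, f (r5 i) = f i) : ∀ (n : ℕ) (i : GolayPt), f ((r5 ^ n) i) = f i
  | 0, i => by rw [pow_zero]; rfl
  | n + 1, i => by rw [pow_succ', Equiv.Perm.mul_apply, hf, fixed_pow hf n]

theorem fixed_rep {f : GolayPt → ℤ} (hf : ∀ i, f (r5 i) = f i) {k : ℕ} (hk : k < 24) :
    f (pt k) = f (pt (rep (cls k))) := by
  rw [pt_eq_pow hk, fixed_pow hf]

/-- The values of the generators on the orbits. -/
def glV (k j : ℕ) : ℤ := (papp (glC.getD k 0) (rep j) : ℤ) - 16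

theorem gl_table : ((List.range 8).all fun j => (List.range 24).all fun k =>
    Nat.beq (papp (glC.getD j 0) k) (papp (glC.getD j 0) (rep (cls k)))) = true := by decide +kernel

theorem gl_val {j : ℕ} (hj : j < 8) (k : ℕ) (hk : k < 24) :
    (gl j : GolayPt → ℤ) (pt k) = glV j (cls k) := by
  have h := List.all_eq_true.mp glC_checked j (List.mem_range.mpr hj)
  simp only [Bool.and_eq_true] at h
  rw [gl, vecL_coe h.1.1, glV]
  have hh := List.all_eq_true.mp (List.all_eq_true.mp gl_table j (List.mem_range.mpr hj)) k (List.mem_range.mpr hk)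
  rw [← Nat.eq_of_beq_eq_true hh]
  show (papp (glC.getD j 0) (idx (pt k)) : ℤ) - 16 = _
  rw [idx_pt hk]

theorem gl_fixed {j : ℕ} (hj : j < 8) (i : GolayPt) :
    (gl j : GolayPt → ℤ) (r5 i) = (gl j : GolayPt → ℤ) i := by
  rw [← pt_idx (r5 i), gl_val hj _ (idx_lt _), cls_step, ← gl_val hj _ (idx_lt i), pt_idx]

theorem glV_eq : ∀ k < 8, ∀ j < 8, glV k j = (([[5, 1, -3, -3, 1, 1, 1, 1],
     [2, 2, 2, 0, 0, 2, 0, 0],
     [2, 2, 0, 2, 0, 0, 2, 0],
     [2, 0, 2, 2, 0, 0, 0, 2],
     [-4, 4, 0, 0, 0, 0, 0, 0],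
     [-4, 0, 4, 0, 0, 0, 0, 0],
     [-4, 0, 0, 4, 0, 0, 0, 0],
     [8, 0, 0, 0, 0, 0, 0, 0]] : List (List ℤ)).getD k []).getD j 0 := by
  decide +kernel

/-- A fixed vector vanishing on the orbits has entries divisible by four on the fixed points. -/
theorem four_supp {y : GolayPt → ℤ} (hy : y ∈ leechLattice) (h0 : ∀ i, 4 ≤ cls (idx i) → y i = 0) :
    (4 : ℤ) ∣ y (pt 17) ∧ (4 : ℤ) ∣ y (pt 19) ∧ (4 : ℤ) ∣ y (pt 23) ∧
      (8 : ℤ) ∣ y (pt 11) + y (pt 17) + y (pt 19) + y (pt 23) := by
  classical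
  obtain ⟨m, c, k, hc, hyk, hs⟩ := mem_leech.mp hy
  set S : Finset GolayPt := {pt 11, pt 17, pt 19, pt 23} with hSdef
  have hmemS : ∀ k < 24, cls k < 4 → k = 11 ∨ k = 17 ∨ k = 19 ∨ k = 23 := by decide +kernel
  have hout : ∀ i ∉ S, y i = 0 := fun i hi => h0 i (by
    by_contra hlt
    simp only [hSdef, Finset.mem_insert, Finset.mem_singleton, not_or] at hi
    rcases hmemS _ (idx_lt i) (by omega) with h | h | h | h <;> rw [← pt_idx i, h] at hi <;> simp at hi)
  have hS4 : S.card ≤ 4 := Finset.card_le_four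
  have hd : ∀ d ∈ CW, (∀ i ∉ S, i ∉ d) → d = ∅ := by
    intro d hd hsub
    have hle : d ⊆ S := fun i hi => by
      by_contra hni; exact hsub i hni hi
    have := Finset.card_le_card hle
    rcases CW_weights hd with h | h | h | h | h
    · exact h
    all_goals first | omega | (exfalso; rw [h, Finset.card_univ, card_univ_pt] at this; omega)
  have hnot : pt 0 ∉ S := by rw [hSdef]; decide +kernel
  have hm2 := hout _ hnot
  rw [hyk] at hm2
  have hall : ∀ i, (4 : ℤ) ∣ m + 2 * chi c i := by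
    by_cases h4 : (4 : ℤ) ∣ m
    · have hce : c = ∅ := hd c hc fun i hi hic => by
        have := hout i hi
        rw [hyk] at this
        simp only [chi, hic, if_true] at this
        omega
      intro i
      simp only [hce, chi, Finset.notMem_empty, if_false]
      omega
    · have hce : cᶜ = ∅ := hd _ (CW_compl hc) fun i hi hic => by
        have := hout i hi
        rw [hyk] at this
        simp only [chi, Finset.mem_compl.mp hic, if_false] at this
        omega
      intro i
      have hic : i ∈ c := by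
        have : i ∉ cᶜ := by rw [hce]; exact Finset.notMem_empty i
        simpa using this
      simp only [chi, hic, if_true] at hm2 ⊢
      by_cases hp : pt 0 ∈ c
      · simp only [hp, if_true] at hm2; omega
      · simp only [hp, if_false] at hm2; omega
  have h4 : ∀ i, (4 : ℤ) ∣ y i := fun i => by have := hall i; rw [hyk]; omega
  refine ⟨h4 _, h4 _, h4 _, ?_⟩
  have hsum : ∑ i, y i = y (pt 11) + y (pt 17) + y (pt 19) + y (pt 23) := by
    rw [← Finset.sum_subset (Finset.subset_univ S) fun i _ hi => hout i hi]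
    rw [hSdef, Finset.sum_insert (by decide +kernel), Finset.sum_insert (by decide +kernel),
      Finset.sum_insert (by decide +kernel), Finset.sum_singleton]
    ring
  rw [← hsum, Finset.sum_congr rfl fun i _ => hyk i]
  simp only [Finset.sum_add_distrib, ← Finset.mul_sum, sum_chi, Finset.sum_const, Finset.card_univ,
    card_univ_pt, nsmul_eq_mul, Nat.cast_ofNat]
  obtain ⟨t, ht⟩ := CW_card_four hc
  omega

/-- The value of a fixed vector on an orbit. -/
def at5 (x : ↥leechLattice) (j : ℕ) : ℤ := (x : GolayPt → ℤ) (pt (rep j))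

theorem at5_sub (x : ↥leechLattice) (a : ℤ) {k j : ℕ} (hk : k < 8) (hj : j < 8) :
    at5 (x - a • gl k) j = at5 x j - a * glV k j := by
  simp only [at5, AddSubgroup.coe_sub, AddSubgroup.coe_zsmul, Pi.sub_apply, Pi.smul_apply, smul_eq_mul,
    gl_val hk _ (rep_facts5 hj).1, (rep_facts5 hj).2.1]

theorem fixed_sub {x : ↥leechLattice} (hx : ∀ i, (x : GolayPt → ℤ) (r5 i) = (x : GolayPt → ℤ) i) (a : ℤ)
    {k : ℕ} (hk : k < 8) : ∀ i, ((x - a • gl k : ↥leechLattice) : GolayPt → ℤ) (r5 i) =
      ((x - a • gl k : ↥leechLattice) : GolayPt → ℤ) i := fun i => by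
  simp only [AddSubgroup.coe_sub, AddSubgroup.coe_zsmul, Pi.sub_apply, Pi.smul_apply]
  rw [hx, gl_fixed hk]

theorem even_of_zero (x : ↥leechLattice) {j : ℕ} (h : at5 x 4 = 0) : (2 : ℤ) ∣ at5 x j := by
  obtain ⟨m, c, k, -, hyk, -⟩ := mem_leech.mp x.2
  rw [at5, hyk] at h ⊢
  omega

/-- Fixed vectors lie in the span. -/
theorem fixed_mem {x : ↥leechLattice} (hx : ∀ i, (x : GolayPt → ℤ) (r5 i) = (x : GolayPt → ℤ) i) : x ∈ P := by
  classical
  -- clear the first orbit
  obtain ⟨a, ha⟩ : ∃ a, a = at5 x 4 := ⟨_, rfl⟩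
  obtain ⟨y1, hy1⟩ : ∃ y, y = x - a • gl 0 := ⟨_, rfl⟩
  have f1 := fixed_sub hx a (k := 0) (by norm_num)
  rw [← hy1] at f1
  have y14 : at5 y1 4 = 0 := by
    rw [hy1, at5_sub _ _ (by norm_num) (by norm_num), glV_eq _ (by norm_num) _ (by norm_num), ← ha]; simp
  obtain ⟨b, hb⟩ := even_of_zero y1 (j := 5) y14
  obtain ⟨y2, hy2⟩ : ∃ y, y = y1 - b • gl 1 := ⟨_, rfl⟩
  have f2 := fixed_sub f1 b (k := 1) (by norm_num)
  rw [← hy2] at f2
  have v2 : ∀ j < 8, at5 y2 j = at5 y1 j - b * glV 1 j := fun j hj => by rw [hy2, at5_sub _ _ (by norm_num) hj]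
  have y24 : at5 y2 4 = 0 := by rw [v2 4 (by norm_num), y14, glV_eq _ (by norm_num) _ (by norm_num)]; simp
  have y25 : at5 y2 5 = 0 := by
    rw [v2 5 (by norm_num), hb, glV_eq _ (by norm_num) _ (by norm_num)]; simp [mul_comm]
  obtain ⟨c, hc⟩ := even_of_zero y2 (j := 6) y24
  obtain ⟨y3, hy3⟩ : ∃ y, y = y2 - c • gl 2 := ⟨_, rfl⟩
  have f3 := fixed_sub f2 c (k := 2) (by norm_num)
  rw [← hy3] at f3
  have v3 : ∀ j < 8, at5 y3 j = at5 y2 j - c * glV 2 j := fun j hj => by rw [hy3, at5_sub _ _ (by norm_num) hj]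
  have y34 : at5 y3 4 = 0 := by rw [v3 4 (by norm_num), y24, glV_eq _ (by norm_num) _ (by norm_num)]; simp
  have y35 : at5 y3 5 = 0 := by rw [v3 5 (by norm_num), y25, glV_eq _ (by norm_num) _ (by norm_num)]; simp
  have y36 : at5 y3 6 = 0 := by
    rw [v3 6 (by norm_num), hc, glV_eq _ (by norm_num) _ (by norm_num)]; simp [mul_comm]
  obtain ⟨d, hd⟩ := even_of_zero y3 (j := 7) y34
  obtain ⟨y4, hy4⟩ : ∃ y, y = y3 - d • gl 3 := ⟨_, rfl⟩
  have f4 := fixed_sub f3 d (k := 3) (by norm_num)
  rw [← hy4] at f4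
  have v4 : ∀ j < 8, at5 y4 j = at5 y3 j - d * glV 3 j := fun j hj => by rw [hy4, at5_sub _ _ (by norm_num) hj]
  have hzero : ∀ j < 8, 4 ≤ j → at5 y4 j = 0 := by
    intro j hj hj4
    interval_cases j
    · rw [v4 4 (by norm_num), y34, glV_eq _ (by norm_num) _ (by norm_num)]; simp
    · rw [v4 5 (by norm_num), y35, glV_eq _ (by norm_num) _ (by norm_num)]; simp
    · rw [v4 6 (by norm_num), y36, glV_eq _ (by norm_num) _ (by norm_num)]; simp
    · rw [v4 7 (by norm_num), hd, glV_eq _ (by norm_num) _ (by norm_num)]; simp [mul_comm]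
  have h0 : ∀ i, 4 ≤ cls (idx i) → (y4 : GolayPt → ℤ) i = 0 := fun i hi => by
    rw [← pt_idx i, fixed_rep f4 (idx_lt i)]
    exact hzero _ (orbit_facts (idx_lt i)).1 hi
  obtain ⟨⟨p, hp⟩, ⟨q, hq⟩, ⟨u, hu⟩, ⟨t, ht⟩⟩ := four_supp y4.2 h0
  have key : y4 = p • gl 4 + q • gl 5 + u • gl 6 + t • gl 7 := by
    refine Subtype.ext (funext fun i => ?_)
    rw [← pt_idx i, fixed_rep f4 (idx_lt i)]
    have hk := idx_lt i
    obtain ⟨h8, -⟩ := orbit_facts hk
    simp only [AddSubgroup.coe_add, AddSubgroup.coe_zsmul, Pi.add_apply, Pi.smul_apply, smul_eq_mul,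
      gl_val (j := 4) (by norm_num) _ hk, gl_val (j := 5) (by norm_num) _ hk, gl_val (j := 6) (by norm_num) _ hk,
      gl_val (j := 7) (by norm_num) _ hk]
    have hr : rep 0 = 11 ∧ rep 1 = 17 ∧ rep 2 = 19 ∧ rep 3 = 23 := by decide +kernel
    by_cases h4 : 4 ≤ cls (idx i)
    · have := hzero _ h8 h4
      rw [at5] at this
      rw [this]
      generalize cls (idx i) = j at h4 h8
      interval_cases j <;> simp [glV_eq]
    · generalize cls (idx i) = j at h4 h8
      interval_cases j <;> simp [glV_eq, hr.1, hr.2.1, hr.2.2.1, hr.2.2.2] <;> omega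
  have hm : y4 ∈ P := by
    rw [key]
    exact add_mem (add_mem (add_mem (zsmul_mem (gl_mem (by norm_num)) _) (zsmul_mem (gl_mem (by norm_num)) _))
      (zsmul_mem (gl_mem (by norm_num)) _)) (zsmul_mem (gl_mem (by norm_num)) _)
  have hx' : x = y4 + d • gl 3 + c • gl 2 + b • gl 1 + a • gl 0 := by rw [hy4, hy3, hy2, hy1]; abel
  rw [hx']
  exact add_mem (add_mem (add_mem (add_mem hm (zsmul_mem (gl_mem (by norm_num)) _))
    (zsmul_mem (gl_mem (by norm_num)) _)) (zsmul_mem (gl_mem (by norm_num)) _)) (zsmul_mem (gl_mem (by norm_num)) _)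

/-- Classes fixed by the permutation of order five lie in the span. -/
theorem class_mem {x : ↥leechLattice} (hx : Cg (p5 • x) x) : x ∈ P := by
  set s := ∑ n ∈ Finset.range 5, p5 ^ n • x with hs
  have hfix : p5 • s = s := by
    rw [hs]
    refine (map_sum (autHom p5) _ _).trans ?_
    show ∑ n ∈ Finset.range 5, p5 • p5 ^ n • x = _
    simp only [← mul_smul, ← pow_succ']
    have h1 := Finset.sum_range_succ (fun n => p5 ^ n • x) 5
    have h2 := Finset.sum_range_succ' (fun n => p5 ^ n • x) 5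
    rw [p5_pow_five] at h1
    simp only [pow_zero] at h2
    rw [h2] at h1
    exact add_right_cancel h1
  have hsP : s ∈ P := fixed_mem fun i => by
    conv_rhs => rw [← p5_apply s i, hfix]
  have hn : ∀ n, Cg (p5 ^ n • x) x := by
    intro n
    induction n with
    | zero => rw [pow_zero, one_smul]; exact Cg.refl' x
    | succ n ih => rw [pow_succ', mul_smul]; exact (Cg.map' p5 ih).trans' hx
  have h5 : ∀ N, Cg (∑ n ∈ Finset.range N, p5 ^ n • x) (N • x) := by
    intro N
    induction N with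
    | zero => simpa using Cg.refl' (0 : ↥leechLattice)
    | succ N ih => rw [Finset.sum_range_succ, succ_nsmul]; exact Cg_add ih (hn N)
  refine P_cg ?_ hsP
  refine Cg.trans' ?_ (h5 5).symm'
  exact ⟨-((2 : ℕ) • x), by abel⟩

/-! ### Inner products -/

/-- The test of the Gram matrix on a sum. -/
noncomputable def gramB (m : ℕ) : Bool :=
  (List.range 8).any fun j => decide ((dotInt (subF m) (vecN (eL.getD j 0)) / 8) % 2 = 1)

theorem gram_checked₁ : ((List.range 63).all fun m => gramB (1 + m)) = true := by decide +kernel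

theorem gram_checked₂ : ((List.range 64).all fun m => gramB (64 + m)) = true := by decide +kernel

theorem gram_checked₃ : ((List.range 64).all fun m => gramB (128 + m)) = true := by decide +kernel

theorem gram_checked₄ : ((List.range 64).all fun m => gramB (192 + m)) = true := by decide +kernel

theorem sub_ip {m : ℕ} (hm : m < 256) (h0 : m ≠ 0) : ∃ j < 8, ip (sub m) (ev' j) = 1 := by
  have hb : gramB m = true := by
    by_cases h1 : m < 64
    · have := List.all_eq_true.mp gram_checked₁ (m - 1) (List.mem_range.mpr (by omega))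
      rwa [show 1 + (m - 1) = m by omega] at this
    by_cases h2 : m < 128
    · have := List.all_eq_true.mp gram_checked₂ (m - 64) (List.mem_range.mpr (by omega))
      rwa [show 64 + (m - 64) = m by omega] at this
    by_cases h3 : m < 192
    · have := List.all_eq_true.mp gram_checked₃ (m - 128) (List.mem_range.mpr (by omega))
      rwa [show 128 + (m - 128) = m by omega] at this
    · have := List.all_eq_true.mp gram_checked₄ (m - 192) (List.mem_range.mpr (by omega))
      rwa [show 192 + (m - 192) = m by omega] at this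
  obtain ⟨j, hj, h⟩ := List.any_eq_true.mp hb
  refine ⟨j, List.mem_range.mp hj, ?_⟩
  rw [decide_eq_true_eq] at h
  rw [ip, sub_coe, ev', vecL_coe (List.all_eq_true.mp eL_lat j hj)]
  exact (ZMod.intCast_eq_intCast_iff' _ 1 2).mpr (by simpa using h)

theorem sub_inj {m n : ℕ} (hm : m < 256) (hn : n < 256) (h : Cg (sub m) (sub n)) : m = n := by
  by_contra hne
  have h0 : m ^^^ n ≠ 0 := fun e => hne (by
    have := congrArg (· ^^^ n) e
    simpa [Nat.xor_assoc] using this)
  obtain ⟨j, -, hj⟩ := sub_ip (Nat.xor_lt_two_pow (n := 8) hm hn) h0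
  rw [← ip_cg (sub_add m n), ip_add, ip_cg h, (show ∀ a : ZMod 2, a + a = 0 by decide)] at hj
  exact zero_ne_one hj

end CfsgLib.MonsterQ.Five
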