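/-
The centraliser of the permutation of order five permutes the seventy-five fixed classes of norm 64 and
the ten subspaces they contain.
-/
import Cfsg.Agent.Lib.MonsterQ.Five.Fixed

set_option autoImplicit false
set_option maxRecDepth 100000
set_option linter.unusedSectionVars false
set_option linter.style.haveILetI false

namespace CfsgLib.MonsterQ.Five

open Cfsg CfsgGolay CfsgLeech CfsgLeech.Models CfsgCoTwoOut
open CfsgLib.MonsterQ.Seven (Cg_add congB congB_sound stab_data mono_ax)
open scoped Pointwise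

attribute [local irreducible] codeL octadL dodecadL slpCodes r5

/-! ### Classes of norm 64 -/

/-- The mask of a class of norm 64. -/
def aM (k : ℕ) : ℕ := abM.getD k 0

/-- The vector of a class of norm 64. -/
def abV (k : ℕ) : ↥leechLattice := vecL (abL.getD k 0)

/-- The test of a class of norm 64. -/
noncomputable def abB (k : ℕ) : Bool :=
  inLatB (vecN (abL.getD k 0)) && congB (vecN (abL.getD k 0)) (subF (aM k)) &&
    decide (dN (abL.getD k 0) (abL.getD k 0) = 64) && Nat.blt (aM k) 256

theorem ab_checked₁ : ((List.range 25).all fun k => abB k) = true := by decide +kernel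

theorem ab_checked₂ : ((List.range 25).all fun k => abB (25 + k)) = true := by decide +kernel

theorem ab_checked₃ : ((List.range 25).all fun k => abB (50 + k)) = true := by decide +kernel

theorem ab_facts {k : ℕ} (hk : k < 75) : (abV k : GolayPt → ℤ) = vecN (abL.getD k 0) ∧
    Cg (abV k) (sub (aM k)) ∧ sqNorm (abV k : GolayPt → ℤ) = 64 ∧ aM k < 256 := by
  have h : abB k = true := by
    by_cases h1 : k < 25
    · exact List.all_eq_true.mp ab_checked₁ k (List.mem_range.mpr h1)
    by_cases h2 : k < 50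
    · have := List.all_eq_true.mp ab_checked₂ (k - 25) (List.mem_range.mpr (by omega))
      rwa [show 25 + (k - 25) = k by omega] at this
    · have := List.all_eq_true.mp ab_checked₃ (k - 50) (List.mem_range.mpr (by omega))
      rwa [show 50 + (k - 50) = k by omega] at this
  simp only [abB, Bool.and_eq_true, Nat.blt_eq, decide_eq_true_eq] at h
  have hc : (abV k : GolayPt → ℤ) = vecN (abL.getD k 0) := vecL_coe h.1.1.1
  refine ⟨hc, congB_sound ?_, by rw [hc, nN_eq, h.1.2], h.2⟩
  rw [hc, sub_coe]; exact h.1.1.2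

theorem abV_P {k : ℕ} (hk : k < 75) : abV k ∈ P := ⟨_, (ab_facts hk).2.2.2, (ab_facts hk).2.1⟩

/-- The test of a class of norm 32. -/
noncomputable def c32B (i : ℕ) : Bool :=
  inLatB (vecN (c32.getD i 0)) && congB (vecN (c32.getD i 0)) (subF (m32.getD i 0)) &&
    decide (dN (c32.getD i 0) (c32.getD i 0) = 32)

theorem c32_checked₁ : ((List.range 20).all fun i => c32B i) = true := by decide +kernel

theorem c32_checked₂ : ((List.range 20).all fun i => c32B (20 + i)) = true := by decide +kernel

theorem c32_checked₃ : ((List.range 20).all fun i => c32B (40 + i)) = true := by decide +kernel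

/-- Every class is of norm 64, of norm 32, or of odd type. -/
noncomputable def kindB (m : ℕ) : Bool :=
  (abM.any fun x => Nat.beq x m) || (m32.any fun x => Nat.beq x m) || decide ((dotInt (subF m) (subF m)) % 32 = 16)

theorem kind_checked₁ : ((List.range 63).all fun m => kindB (1 + m)) = true := by decide +kernel

theorem kind_checked₂ : ((List.range 64).all fun m => kindB (64 + m)) = true := by decide +kernel

theorem kind_checked₃ : ((List.range 64).all fun m => kindB (128 + m)) = true := by decide +kernel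

theorem kind_checked₄ : ((List.range 64).all fun m => kindB (192 + m)) = true := by decide +kernel

theorem norm_mod {v w : ↥leechLattice} (h : Cg v w) :
    sqNorm (v : GolayPt → ℤ) % 32 = sqNorm (w : GolayPt → ℤ) % 32 := by
  obtain ⟨u, hu⟩ := h
  rw [sub_eq_iff_eq_add'] at hu
  have h1 := (sqNorm_sub_add (w : GolayPt → ℤ) ((u + u : ↥leechLattice) : GolayPt → ℤ)).2
  rw [← AddSubgroup.coe_add, ← hu] at h1
  have h2 := (sqNorm_sub_add (u : GolayPt → ℤ) (u : GolayPt → ℤ)).2
  rw [← AddSubgroup.coe_add] at h2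
  have h3 := dot_dvd w (u + u)
  have h4 := dot_dvd u u
  have h5 := sqNorm_dvd (mem_leech.mp u.2)
  have h6 : dotInt (w : GolayPt → ℤ) ((u + u : ↥leechLattice) : GolayPt → ℤ) =
      2 * dotInt (w : GolayPt → ℤ) (u : GolayPt → ℤ) := by
    simp only [dotInt, AddSubgroup.coe_add, Pi.add_apply, Finset.mul_sum]
    exact Finset.sum_congr rfl fun i _ => by ring
  have h7 := dot_dvd w u
  have h8 : dotInt (u : GolayPt → ℤ) (u : GolayPt → ℤ) = sqNorm (u : GolayPt → ℤ) := by
    rw [dotInt, sqNorm]
    exact Finset.sum_congr rfl fun i _ => (sq _).symm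
  omega

/-- A class of norm 64 in the span is one of the seventy-five. -/
theorem norm64_mem {m : ℕ} (hm : m < 256) {v : ↥leechLattice} (hv : sqNorm (v : GolayPt → ℤ) = 64)
    (h : Cg v (sub m)) : ∃ k < 75, aM k = m := by
  rcases Nat.eq_zero_or_pos m with rfl | h0
  · exfalso
    rw [sub_zero'] at h
    refine not_cg_zero ?_ (by rw [hv]) h
    rintro rfl
    simp [sqNorm] at hv
  · have hb : kindB m = true := by
      by_cases h1 : m < 64
      · have := List.all_eq_true.mp kind_checked₁ (m - 1) (List.mem_range.mpr (by omega))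
        rwa [show 1 + (m - 1) = m by omega] at this
      by_cases h2 : m < 128
      · have := List.all_eq_true.mp kind_checked₂ (m - 64) (List.mem_range.mpr (by omega))
        rwa [show 64 + (m - 64) = m by omega] at this
      by_cases h3 : m < 192
      · have := List.all_eq_true.mp kind_checked₃ (m - 128) (List.mem_range.mpr (by omega))
        rwa [show 128 + (m - 128) = m by omega] at this
      · have := List.all_eq_true.mp kind_checked₄ (m - 192) (List.mem_range.mpr (by omega))
        rwa [show 192 + (m - 192) = m by omega] at this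
    simp only [kindB, Bool.or_eq_true, List.any_eq_true, decide_eq_true_eq] at hb
    rcases hb with (⟨x, hx, he⟩ | ⟨x, hx, he⟩) | hp
    · obtain ⟨k, hk, rfl⟩ := List.getElem_of_mem hx
      exact ⟨k, hk, by rw [aM, List.getD_eq_getElem _ _ hk]; exact Nat.eq_of_beq_eq_true he⟩
    · exfalso
      obtain ⟨i, hi, rfl⟩ := List.getElem_of_mem hx
      have hi60 : i < 60 := hi
      have hc : c32B i = true := by
        by_cases h1 : i < 20
        · exact List.all_eq_true.mp c32_checked₁ i (List.mem_range.mpr h1)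
        by_cases h2 : i < 40
        · have := List.all_eq_true.mp c32_checked₂ (i - 20) (List.mem_range.mpr (by omega))
          rwa [show 20 + (i - 20) = i by omega] at this
        · have := List.all_eq_true.mp c32_checked₃ (i - 40) (List.mem_range.mpr (by omega))
          rwa [show 40 + (i - 40) = i by omega] at this
      simp only [c32B, Bool.and_eq_true, decide_eq_true_eq] at hc
      obtain ⟨⟨h1, h2⟩, h3⟩ := hc
      rw [List.getD_eq_getElem m32 _ hi, Nat.eq_of_beq_eq_true he] at h2
      have hw : ((vecL (c32.getD i 0) : ↥leechLattice) : GolayPt → ℤ) = vecN (c32.getD i 0) := vecL_coe h1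
      have hcg : Cg v (vecL (c32.getD i 0)) := h.trans' (congB_sound (by rw [hw, sub_coe]; exact h2)).symm'
      have hn : sqNorm ((vecL (c32.getD i 0) : ↥leechLattice) : GolayPt → ℤ) = 32 := by rw [hw, nN_eq, h3]
      have := (norm_of_cg hcg (by rw [hv]) (by rw [hn]; norm_num)).1
      omega
    · exfalso
      have := norm_mod h
      have e : sqNorm ((sub m : ↥leechLattice) : GolayPt → ℤ) = dotInt (subF m) (subF m) := by
        rw [sub_coe, dotInt, sqNorm]
        exact Finset.sum_congr rfl fun i _ => sq _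
      rw [hv, e, hp] at this
      norm_num at this

theorem aV_zero : abV 0 = ax none := by
  have h : vecN (abL.getD 0 0) = Pi.single none 8 := by decide +kernel
  exact Subtype.ext (by rw [(ab_facts (by norm_num)).1, h, ax_coe])

/-! ### The centraliser -/

/-- The centraliser. -/
noncomputable def CC : Subgroup ↥Co0 := Subgroup.centralizer {p5}

theorem mem_CC {g : ↥Co0} : g ∈ CC ↔ g * p5 = p5 * g := Subgroup.mem_centralizer_singleton_iff

theorem gE_mem {k : ℕ} (hk : k < 11) : gE k ∈ CC := mem_CC.mpr (gE_comm hk)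

theorem p5_mem : p5 ∈ CC := mem_CC.mpr rfl

theorem negAut_mem : negAut ∈ CC := mem_CC.mpr (Subgroup.mem_center_iff.mp negAut_central p5).symm

/-- The images of the basis under a word. -/
noncomputable def imgB (w : List Step) (M : List ℕ) : Bool :=
  (List.range 8).all fun j => Nat.blt (M.getD j 0) 256 &&
    runB w (eL.getD j 0) fun d => inLatB (vecN d) && congB (vecN d) (subF (M.getD j 0))

/-- The linear map of a list of images. -/
def lin (M : List ℕ) (m : ℕ) : ℕ := ((List.range 8).map fun j => cond (m.testBit j) (M.getD j 0) 0).foldr (· ^^^ ·) 0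

theorem imgB_sound {w : List Step} (hw : wordOK w = true) {M : List ℕ} (h : imgB w M = true) (m : ℕ) :
    lin M m < 256 ∧ Cg (el w • sub m) (sub (lin M m)) := by
  have hj : ∀ j < 8, M.getD j 0 < 256 ∧ Cg (el w • ev' j) (sub (M.getD j 0)) := by
    intro j hj
    have h1 := List.all_eq_true.mp h j (List.mem_range.mpr hj)
    rw [Bool.and_eq_true, Nat.blt_eq] at h1
    obtain ⟨d, hd, hk⟩ := runB_sound _ _ _ h1.2
    rw [Bool.and_eq_true] at hk
    refine ⟨h1.1, congB_sound ?_⟩
    rw [el_apply hw, ev', vecL_coe (List.all_eq_true.mp eL_lat j (List.mem_range.mpr hj)), hd, sub_coe]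
    exact hk.2
  have h0 : el w • (0 : ↥leechLattice) = 0 := map_zero (autHom (el w))
  have hL : ∀ L : List ℕ, (∀ j ∈ L, j < 8) →
      (L.map fun j => cond (m.testBit j) (M.getD j 0) 0).foldr (· ^^^ ·) 0 < 256 ∧
      Cg (el w • (L.map fun j => cond (m.testBit j) (ev' j) 0).sum)
        (sub ((L.map fun j => cond (m.testBit j) (M.getD j 0) 0).foldr (· ^^^ ·) 0)) := by
    intro L
    induction L with
    | nil => intro _; exact ⟨by norm_num, by simp only [List.map_nil, List.sum_nil, List.foldr_nil]; rw [h0, sub_zero']; exact Cg.refl' 0⟩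
    | cons a L ih =>
      intro hL
      obtain ⟨hlt, hcg⟩ := ih fun j hj => hL j (List.mem_cons_of_mem _ hj)
      simp only [List.map_cons, List.sum_cons, List.foldr_cons]
      rw [aut_add]
      cases m.testBit a
      · refine ⟨by rw [cond_false, Nat.zero_xor]; exact hlt, ?_⟩
        rw [cond_false, cond_false, Nat.zero_xor, h0, zero_add]; exact hcg
      · obtain ⟨ha, hac⟩ := hj a (hL a List.mem_cons_self)
        exact ⟨Nat.xor_lt_two_pow (n := 8) ha hlt, (Cg_add hac hcg).trans' (sub_add _ _)⟩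
  exact hL _ fun j hj => List.mem_range.mp hj

theorem p5_img : imgB p5W [1, 2, 4, 8, 16, 32, 64, 128] = true := by decide +kernel

theorem lin_id : ∀ m < 256, lin [1, 2, 4, 8, 16, 32, 64, 128] m = m := by decide +kernel

theorem p5_fix {x : ↥leechLattice} (h : x ∈ P) : Cg (p5 • x) x := by
  obtain ⟨m, hm, hcg⟩ := h
  have h1 := (imgB_sound p5W_ok p5_img m).2
  rw [el_p5W, lin_id m hm] at h1
  exact ((Cg.map' p5 hcg).trans' h1).trans' hcg.symm'

/-- The centraliser permutes the fixed classes. -/
theorem CC_P {g : ↥Co0} (hg : g ∈ CC) {x : ↥leechLattice} (hx : x ∈ P) : g • x ∈ P := by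
  refine class_mem ?_
  rw [← mul_smul, ← mem_CC.mp hg, mul_smul]
  exact Cg.map' g (p5_fix hx)

theorem CC_move {g : ↥Co0} (hg : g ∈ CC) {k : ℕ} (hk : k < 75) : ∃ j < 75, Cg (g • abV k) (abV j) := by
  obtain ⟨m, hm, hcg⟩ := CC_P hg (abV_P hk)
  have hv : sqNorm ((g • abV k : ↥leechLattice) : GolayPt → ℤ) = 64 :=
    (aut_norm _ _).trans (ab_facts hk).2.2.1
  obtain ⟨j, hj, rfl⟩ := norm64_mem hm hv hcg
  exact ⟨j, hj, hcg.trans' (ab_facts hj).2.1.symm'⟩

theorem CC_stab_card : Nat.card ↥(CC ⊓ crossStab) ≤ 960 := by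
  classical
  obtain ⟨τ, hτ, hp⟩ := p5_eq
  let T := ↥(centM r5) × {c : Finset GolayPt // c ∈ CW ∧ ∀ i, (r5 i ∈ c ↔ i ∈ c)}
  have hex : ∀ g : ↥(CC ⊓ crossStab), ∃ t : T, ∀ j, (g : ↥Co0) • ax j =
      if t.1.1 j ∈ t.2.1 then -ax (t.1.1 j) else ax (t.1.1 j) := by
    intro g
    refine stab_data τ r5 hτ g ?_ (Subgroup.mem_inf.mp g.2).2
    rw [← hp]
    exact mem_CC.mp (Subgroup.mem_inf.mp g.2).1
  choose t ht using hex
  calc Nat.card ↥(CC ⊓ crossStab) ≤ Nat.card T := Nat.card_le_card_of_injective t fun a b hab =>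
        Subtype.ext (ext_ax fun j => by rw [ht a, ht b, hab])
    _ ≤ 60 * 16 := by
        rw [Nat.card_prod]; exact Nat.mul_le_mul cent_r5_card fixed_CW_card
    _ = 960 := rfl

theorem CC_card : Nat.card ↥CC ≤ 72000 := by
  classical
  haveI := co0_finite
  have hex : ∀ g : ↥CC, ∃ k : Fin 75, Cg ((g : ↥Co0) • abV 0) (abV k) := fun g => by
    obtain ⟨k, hk, h⟩ := CC_move g.2 (show 0 < 75 by norm_num)
    exact ⟨⟨k, hk⟩, h⟩
  choose k hk using hex
  let rp : Fin 75 → ↥CC := fun i => if h : ∃ g, k g = i then h.choose else 1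
  have hrp : ∀ g, k (rp (k g)) = k g := fun g => by
    have h : ∃ g', k g' = k g := ⟨g, rfl⟩
    simp only [rp, dif_pos h]
    exact h.choose_spec
  have hex2 : ∀ g : ↥CC, ((rp (k g))⁻¹ * g : ↥CC).1 ∈ CC ⊓ crossStab := fun g => by
    refine ⟨((rp (k g))⁻¹ * g).2, ?_⟩
    rw [← modStab_ax, ← aV_zero]
    show Cg (((rp (k g) : ↥Co0)⁻¹ * (g : ↥Co0)) • abV 0) (abV 0)
    have h1 := hk (rp (k g))
    rw [hrp] at h1
    have h2 := Cg.map' (rp (k g) : ↥Co0)⁻¹ ((hk g).trans' h1.symm')
    rwa [← mul_smul, inv_smul_smul] at h2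
  calc Nat.card ↥CC ≤ Nat.card (Fin 75 × ↥(CC ⊓ crossStab)) :=
        Nat.card_le_card_of_injective (fun g => (k g, ⟨_, hex2 g⟩)) fun a b hab => by
          simp only [Prod.mk.injEq, Subtype.mk.injEq] at hab
          rw [hab.1] at hab
          exact mul_left_cancel (Subtype.ext hab.2)
    _ ≤ 75 * 960 := by
        rw [Nat.card_prod, Nat.card_fin]; exact Nat.mul_le_mul_left _ CC_stab_card
    _ = 72000 := rfl

/-! ### The action on the masks -/

open Classical in
/-- The action on the masks. -/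
noncomputable def act (g : ↥Co0) (m : ℕ) : ℕ :=
  if h : ∃ n < 256, Cg (g • sub m) (sub n) then h.choose else 0

theorem act_spec {g : ↥Co0} (hg : g ∈ CC) {m : ℕ} (hm : m < 256) :
    act g m < 256 ∧ Cg (g • sub m) (sub (act g m)) := by
  have h : ∃ n < 256, Cg (g • sub m) (sub n) := CC_P hg (sub_mem_P hm)
  rw [act, dif_pos h]
  exact h.choose_spec

theorem act_eq {g : ↥Co0} (hg : g ∈ CC) {m n : ℕ} (hm : m < 256) (hn : n < 256) (h : Cg (g • sub m) (sub n)) :
    act g m = n :=
  sub_inj (act_spec hg hm).1 hn ((act_spec hg hm).2.symm'.trans' h)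

theorem act_one {m : ℕ} (hm : m < 256) : act 1 m = m :=
  act_eq CC.one_mem hm hm (by rw [one_smul]; exact Cg.refl' _)

theorem act_mul {g h : ↥Co0} (hg : g ∈ CC) (hh : h ∈ CC) {m : ℕ} (hm : m < 256) :
    act (g * h) m = act g (act h m) := by
  obtain ⟨h1, h2⟩ := act_spec hh hm
  obtain ⟨h3, h4⟩ := act_spec hg h1
  exact act_eq (CC.mul_mem hg hh) hm h3 (by rw [mul_smul]; exact (Cg.map' g h2).trans' h4)

theorem act_xor {g : ↥Co0} (hg : g ∈ CC) {m n : ℕ} (hm : m < 256) (hn : n < 256) :
    act g (m ^^^ n) = act g m ^^^ act g n := by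
  obtain ⟨h1, h2⟩ := act_spec hg hm
  obtain ⟨h3, h4⟩ := act_spec hg hn
  refine act_eq hg (Nat.xor_lt_two_pow (n := 8) hm hn) (Nat.xor_lt_two_pow (n := 8) h1 h3) ?_
  refine ((Cg.map' g (sub_add m n).symm').trans' ?_).trans' (sub_add _ _)
  rw [aut_add]
  exact Cg_add h2 h4

theorem act_inj {g : ↥Co0} (hg : g ∈ CC) {m n : ℕ} (hm : m < 256) (hn : n < 256) (h : act g m = act g n) : m = n := by
  have := congrArg (act g⁻¹) h
  rwa [← act_mul (CC.inv_mem hg) hg hm, ← act_mul (CC.inv_mem hg) hg hn, inv_mul_cancel, act_one hm, act_one hn] at this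

theorem abM_mem {x : ℕ} (hx : x ∈ abM) : ∃ k < 75, aM k = x := by
  obtain ⟨k, hk, rfl⟩ := List.getElem_of_mem hx
  exact ⟨k, hk, List.getD_eq_getElem _ _ hk⟩

theorem aM_mem {k : ℕ} (hk : k < 75) : aM k ∈ abM := by
  rw [aM, List.getD_eq_getElem _ _ (show k < abM.length from hk)]; exact List.getElem_mem _

theorem abM_lt {x : ℕ} (hx : x ∈ abM) : x < 256 := by
  obtain ⟨k, hk, rfl⟩ := abM_mem hx
  exact (ab_facts hk).2.2.2

theorem act_mem {g : ↥Co0} (hg : g ∈ CC) {x : ℕ} (hx : x ∈ abM) : act g x ∈ abM := by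
  obtain ⟨k, hk, rfl⟩ := abM_mem hx
  obtain ⟨j, hj, h⟩ := CC_move hg hk
  rw [act_eq hg (ab_facts hk).2.2.2 (ab_facts hj).2.2.2
    (((Cg.map' g (ab_facts hk).2.1.symm').trans' h).trans' (ab_facts hj).2.1)]
  exact aM_mem hj

theorem act_word {w : List Step} (hw : wordOK w = true) {M : List ℕ} (h : imgB w M = true) (hg : el w ∈ CC)
    {m : ℕ} (hm : m < 256) : act (el w) m = lin M m :=
  act_eq hg hm (imgB_sound hw h m).1 (imgB_sound hw h m).2

/-! ### The ten subspaces -/

/-- The members of one of the subspaces, without zero. -/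
def obS (i : ℕ) : List ℕ := abM.filter fun m => (obL.getD i 0).testBit m

/-- The subspace as a set. -/
def O (i : ℕ) : Finset ℕ := (obS i).toFinset

/-- Membership in the set of norm 64. -/
def inS (m : ℕ) : Bool := sMask.testBit m

theorem inS_checked : ∀ x ∈ abM, inS x = true := by decide +kernel

theorem obS_checked : ((List.range 10).all fun i => Nat.beq (obS i).length 15 && decide (obS i).Nodup &&
    (obS i).all fun x => (obS i).all fun y => Nat.beq x y || (obS i).any fun z => Nat.beq z (x ^^^ y)) = true := by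
  decide +kernel

theorem O_facts {i : ℕ} (hi : i < 10) : (O i).card = 15 ∧ (∀ x ∈ O i, x ∈ abM) ∧
    ∀ x ∈ O i, ∀ y ∈ O i, x ≠ y → x ^^^ y ∈ O i := by
  have h := List.all_eq_true.mp obS_checked i (List.mem_range.mpr hi)
  simp only [Bool.and_eq_true, decide_eq_true_eq, List.all_eq_true, Bool.or_eq_true, List.any_eq_true] at h
  refine ⟨by rw [O, List.toFinset_card_of_nodup h.1.2, Nat.eq_of_beq_eq_true h.1.1],
    fun x hx => (List.mem_filter.mp (List.mem_toFinset.mp hx)).1, fun x hx y hy hne => ?_⟩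
  rcases h.2 x (List.mem_toFinset.mp hx) y (List.mem_toFinset.mp hy) with e | ⟨z, hz, e⟩
  · exact absurd (Nat.eq_of_beq_eq_true e) hne
  · exact List.mem_toFinset.mpr (Nat.eq_of_beq_eq_true e ▸ hz)

theorem O_inj : ∀ i < 10, ∀ j < 10, O i = O j → i = j := by decide +kernel

/-- The members compatible with a pair. -/
def nbr (x y : ℕ) : List ℕ := abM.filter fun w =>
  Nat.beq w x || Nat.beq w y || Nat.beq w (x ^^^ y) || (inS (x ^^^ w) && inS (y ^^^ w) && inS (x ^^^ y ^^^ w))

/-- The pair spans one of the subspaces. -/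
def goodB (x y : ℕ) : Bool := (List.range 10).any fun i => (nbr x y).all fun w => (obL.getD i 0).testBit w

/-- The members forming an exceptional pair with the given one. -/
def badL (x : ℕ) : List ℕ := abM.filter fun y => !(Nat.beq y x) && inS (x ^^^ y) && !(goodB x y)

theorem bad_checked₁ : ((List.range 25).all fun k => Nat.blt (badL (aM k)).length 3) = true := by decide +kernel

theorem bad_checked₂ : ((List.range 25).all fun k => Nat.blt (badL (aM (25 + k))).length 3) = true := by decide +kernel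

theorem bad_checked₃ : ((List.range 25).all fun k => Nat.blt (badL (aM (50 + k))).length 3) = true := by decide +kernel

theorem bad_small {x : ℕ} (hx : x ∈ abM) : (badL x).length < 3 := by
  obtain ⟨k, hk, rfl⟩ := abM_mem hx
  by_cases h1 : k < 25
  · exact Nat.blt_eq.mp (List.all_eq_true.mp bad_checked₁ k (List.mem_range.mpr h1))
  by_cases h2 : k < 50
  · have := List.all_eq_true.mp bad_checked₂ (k - 25) (List.mem_range.mpr (by omega))
    rw [show 25 + (k - 25) = k by omega] at this
    exact Nat.blt_eq.mp this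
  · have := List.all_eq_true.mp bad_checked₃ (k - 50) (List.mem_range.mpr (by omega))
    rw [show 50 + (k - 50) = k by omega] at this
    exact Nat.blt_eq.mp this

/-- A set of fifteen closed classes of norm 64 is one of the ten subspaces. -/
theorem closed_is_O {W : Finset ℕ} (hc : W.card = 15) (hS : ∀ x ∈ W, x ∈ abM)
    (hcl : ∀ x ∈ W, ∀ y ∈ W, x ≠ y → x ^^^ y ∈ W) : ∃ i < 10, W = O i := by
  classical
  obtain ⟨x, hx⟩ : W.Nonempty := Finset.card_pos.mp (by omega)
  obtain ⟨y, hy, hyb⟩ : ∃ y ∈ W.erase x, y ∉ (badL x).toFinset := by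
    by_contra h
    push Not at h
    have h1 := Finset.card_le_card (show W.erase x ⊆ (badL x).toFinset from h)
    have h2 := List.toFinset_card_le (badL x)
    have h3 := bad_small (hS x hx)
    rw [Finset.card_erase_of_mem hx, hc] at h1
    omega
  obtain ⟨hyx, hyW⟩ := Finset.mem_erase.mp hy
  have hxy : x ^^^ y ∈ W := hcl x hx y hyW (Ne.symm hyx)
  have hgood : goodB x y = true := by
    by_contra hg
    refine hyb (List.mem_toFinset.mpr (List.mem_filter.mpr ⟨hS y hyW, ?_⟩))
    simp only [Bool.and_eq_true, Bool.not_eq_true', Bool.not_eq_true] at hg ⊢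
    exact ⟨⟨Bool.eq_false_iff.mpr fun e => hyx (Nat.eq_of_beq_eq_true e), inS_checked _ (hS _ hxy)⟩, hg⟩
  obtain ⟨i, hi, hall⟩ := List.any_eq_true.mp hgood
  have hi10 := List.mem_range.mp hi
  refine ⟨i, hi10, Finset.eq_of_subset_of_card_le (fun w hw => ?_) (by rw [(O_facts hi10).1, hc])⟩
  refine List.mem_toFinset.mpr (List.mem_filter.mpr ⟨hS w hw, List.all_eq_true.mp hall w ?_⟩)
  refine List.mem_filter.mpr ⟨hS w hw, ?_⟩
  simp only [Bool.or_eq_true, Bool.and_eq_true]
  by_cases e1 : w = x
  · exact Or.inl (Or.inl (Or.inl (by rw [e1, Nat.beq_refl])))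
  by_cases e2 : w = y
  · exact Or.inl (Or.inl (Or.inr (by rw [e2, Nat.beq_refl])))
  by_cases e3 : w = x ^^^ y
  · exact Or.inl (Or.inr (by rw [e3, Nat.beq_refl]))
  exact Or.inr ⟨⟨inS_checked _ (hS _ (hcl x hx w hw (Ne.symm e1))), inS_checked _ (hS _ (hcl y hyW w hw (Ne.symm e2)))⟩,
    inS_checked _ (hS _ (hcl _ hxy w hw (Ne.symm e3)))⟩

theorem image_O {g : ↥Co0} (hg : g ∈ CC) {i : ℕ} (hi : i < 10) : ∃ j < 10, (O i).image (act g) = O j := by
  obtain ⟨h1, h2, h3⟩ := O_facts hi
  refine closed_is_O ?_ ?_ ?_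
  · rw [Finset.card_image_of_injOn, h1]
    exact fun a ha b hb e => act_inj hg (abM_lt (h2 a ha)) (abM_lt (h2 b hb)) e
  · intro x hx
    obtain ⟨a, ha, rfl⟩ := Finset.mem_image.mp hx
    exact act_mem hg (h2 a ha)
  · intro x hx y hy hne
    obtain ⟨a, ha, rfl⟩ := Finset.mem_image.mp hx
    obtain ⟨b, hb, rfl⟩ := Finset.mem_image.mp hy
    rw [← act_xor hg (abM_lt (h2 a ha)) (abM_lt (h2 b hb))]
    exact Finset.mem_image_of_mem _ (h3 a ha b hb fun e => hne (by rw [e]))

end CfsgLib.MonsterQ.Five
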