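/-
The centraliser of the permutation of order five acts on the ten subspaces as the wreath product of the
alternating group of degree five by a group of order two.
-/
import Cfsg.Agent.Lib.MonsterQ.Five.Action
import Cfsg.Prelude.Def_MonsterType
import Mathlib.GroupTheory.SpecificGroups.Alternating

set_option autoImplicit false
set_option maxRecDepth 100000
set_option linter.unusedSectionVars false
set_option linter.style.haveILetI false

namespace CfsgLib.MonsterQ.Five

open Cfsg CfsgGolay CfsgLeech CfsgLeech.Models CfsgCoTwoOut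
open scoped Pointwise

attribute [local irreducible] codeL octadL dodecadL slpCodes r5

/-- The names of the ten subspaces. -/
abbrev Ix : Type := Fin 5 ⊕ Fin 5

/-- The index of a name. -/
def ixN : Ix → ℕ := Sum.elim (fun i => i.val) (fun i => 5 + i.val)

/-- The name of an index. -/
def nIx (n : ℕ) : Ix := if n < 5 then Sum.inl (Fin.ofNat 5 n) else Sum.inr (Fin.ofNat 5 (n - 5))

theorem ixN_facts : (∀ p : Ix, ixN p < 10 ∧ nIx (ixN p) = p) ∧ ∀ n < 10, ixN (nIx n) = n := by decide +kernel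

open Classical in
/-- The permutation of the names. -/
noncomputable def fIx (g : ↥Co0) (p : Ix) : Ix :=
  if h : ∃ q : Ix, (O (ixN p)).image (act g) = O (ixN q) then h.choose else p

theorem fIx_spec {g : ↥Co0} (hg : g ∈ CC) (p : Ix) : (O (ixN p)).image (act g) = O (ixN (fIx g p)) := by
  have h : ∃ q : Ix, (O (ixN p)).image (act g) = O (ixN q) := by
    obtain ⟨j, hj, e⟩ := image_O hg (ixN_facts.1 p).1
    exact ⟨nIx j, by rw [ixN_facts.2 j hj]; exact e⟩
  rw [fIx, dif_pos h]
  exact h.choose_spec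

theorem fIx_eq {g : ↥Co0} (hg : g ∈ CC) {p q : Ix} (h : (O (ixN p)).image (act g) = O (ixN q)) : fIx g p = q := by
  have h2 := O_inj _ (ixN_facts.1 _).1 _ (ixN_facts.1 q).1 ((fIx_spec hg p).symm.trans h)
  rw [← (ixN_facts.1 (fIx g p)).2, h2, (ixN_facts.1 q).2]

theorem fIx_one (p : Ix) : fIx 1 p = p := by
  refine fIx_eq CC.one_mem ?_
  refine (Finset.image_congr fun x hx => act_one (abM_lt ((O_facts (ixN_facts.1 p).1).2.1 x hx))).trans ?_
  exact Finset.image_id'

theorem fIx_mul {g h : ↥Co0} (hg : g ∈ CC) (hh : h ∈ CC) (p : Ix) : fIx (g * h) p = fIx g (fIx h p) := by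
  refine fIx_eq (CC.mul_mem hg hh) ?_
  rw [← fIx_spec hg, ← fIx_spec hh, Finset.image_image]
  exact Finset.image_congr fun x hx => act_mul hg hh (abM_lt ((O_facts (ixN_facts.1 p).1).2.1 x hx))

/-- The action on the ten subspaces. -/
noncomputable def phi : ↥CC →* Equiv.Perm Ix :=
  MonoidHom.mk' (fun g => ⟨fIx (g : ↥Co0), fIx (g⁻¹ : ↥CC).1,
      fun p => by rw [← fIx_mul (g⁻¹ : ↥CC).2 g.2, ← Subgroup.coe_mul, inv_mul_cancel, Subgroup.coe_one, fIx_one],
      fun p => by rw [← fIx_mul g.2 (g⁻¹ : ↥CC).2, ← Subgroup.coe_mul, mul_inv_cancel, Subgroup.coe_one, fIx_one]⟩)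
    fun g h => Equiv.ext fun p => by
      rw [Equiv.Perm.mul_apply]
      exact fIx_mul g.2 h.2 p

theorem phi_apply (g : ↥CC) (p : Ix) : phi g p = fIx (g : ↥Co0) p := rfl

theorem phi_triv {g : ↥CC} (h : ∀ m < 256, Cg ((g : ↥Co0) • sub m) (sub m)) : phi g = 1 := by
  refine Equiv.ext fun p => fIx_eq g.2 ?_
  refine (Finset.image_congr fun x hx => ?_).trans Finset.image_id'
  exact act_eq g.2 (abM_lt ((O_facts (ixN_facts.1 p).1).2.1 x hx)) (abM_lt ((O_facts (ixN_facts.1 p).1).2.1 x hx))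
    (h x (abM_lt ((O_facts (ixN_facts.1 p).1).2.1 x hx)))

/-! ### The generators -/

/-- The images of the basis under one of the elements. -/
def gM' (k : ℕ) : List ℕ := gImg.getD k []

/-- The permutation of one of the elements. -/
def gP (k : ℕ) (p : Ix) : Ix := nIx ((gPerm.getD k []).getD (ixN p) 0)

/-- The test of one of the elements. -/
noncomputable def genB (k : ℕ) : Bool :=
  imgB (gw k) (gM' k) && (List.range 10).all fun i => (obS i).all fun x =>
    Nat.blt ((gPerm.getD k []).getD i 0) 10 && (obL.getD ((gPerm.getD k []).getD i 0) 0).testBit (lin (gM' k) x)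

theorem gen_checked₁ : ((List.range 6).all fun k => genB k) = true := by decide +kernel

theorem gen_checked₂ : ((List.range 5).all fun k => genB (6 + k)) = true := by decide +kernel

/-- One of the elements in the centraliser. -/
noncomputable def gC (k : Fin 11) : ↥CC := ⟨gE k.val, gE_mem k.isLt⟩

theorem phi_gC (k : Fin 11) (p : Ix) : phi (gC k) p = gP k.val p := by
  classical
  have h : genB k.val = true := by
    by_cases h1 : k.val < 6
    · exact List.all_eq_true.mp gen_checked₁ k.val (List.mem_range.mpr h1)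
    · have := List.all_eq_true.mp gen_checked₂ (k.val - 6) (List.mem_range.mpr (by omega))
      rwa [show 6 + (k.val - 6) = k.val by omega] at this
  simp only [genB, Bool.and_eq_true] at h
  have hw := List.all_eq_true.mp gw_ok k.val (List.mem_range.mpr k.isLt)
  have hp := (ixN_facts.1 p).1
  have hall := List.all_eq_true.mp h.2 _ (List.mem_range.mpr hp)
  obtain ⟨hc, hS, -⟩ := O_facts hp
  obtain ⟨x₀, hx₀⟩ : (O (ixN p)).Nonempty := Finset.card_pos.mp (by omega)
  have hn : (gPerm.getD k.val []).getD (ixN p) 0 < 10 := by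
    have := List.all_eq_true.mp hall x₀ (List.mem_toFinset.mp hx₀)
    rw [Bool.and_eq_true, Nat.blt_eq] at this
    exact this.1
  rw [phi_apply]
  refine fIx_eq (gE_mem k.isLt) ?_
  rw [gP, ixN_facts.2 _ hn]
  refine Finset.eq_of_subset_of_card_le (fun y hy => ?_) ?_
  · obtain ⟨x, hx, rfl⟩ := Finset.mem_image.mp hy
    have h3 := List.all_eq_true.mp hall x (List.mem_toFinset.mp hx)
    rw [Bool.and_eq_true] at h3
    refine List.mem_toFinset.mpr (List.mem_filter.mpr ⟨act_mem (gE_mem k.isLt) (hS x hx), ?_⟩)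
    rw [gE, act_word hw h.1 (gE_mem k.isLt) (abM_lt (hS x hx))]
    exact h3.2
  · rw [(O_facts hn).1, Finset.card_image_of_injOn, hc]
    exact fun a ha b hb e => act_inj (gE_mem k.isLt) (abM_lt (hS a ha)) (abM_lt (hS b hb)) e

/-- A product of the elements. -/
noncomputable def gProd (L : List ℕ) : ↥CC := (L.map fun k => gC (Fin.ofNat 11 k)).prod

theorem phi_gProd : ∀ (L : List ℕ) (p : Ix),
    phi (gProd L) p = L.foldr (fun k q => gP (Fin.ofNat 11 k).val q) p
  | [], p => by simp [gProd]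
  | k :: L, p => by
    have e : gProd (k :: L) = gC (Fin.ofNat 11 k) * gProd L := by simp [gProd]
    rw [e, map_mul, Equiv.Perm.mul_apply, phi_gProd L p, phi_gC, List.foldr_cons]

/-- A cycle of order three. -/
def sA : Equiv.Perm (Fin 5) := ⟨![1, 2, 0, 3, 4], ![2, 0, 1, 3, 4], by decide, by decide⟩

/-- A cycle of order five. -/
def sB : Equiv.Perm (Fin 5) := ⟨![1, 2, 3, 4, 0], ![4, 0, 1, 2, 3], by decide, by decide⟩

/-- The evaluation of a word. -/
def evalA (w : List Bool) : Equiv.Perm (Fin 5) := (w.map fun t => cond t sB sA).prod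

theorem alt_words : ∀ σ : Equiv.Perm (Fin 5), Equiv.Perm.sign σ = 1 → σ ∈ a5L.map evalA := by decide +kernel

theorem targets :
    (∀ p : Ix, a1W.foldr (fun k q => gP (Fin.ofNat 11 k).val q) p = Equiv.Perm.sumCongr sA 1 p) ∧
    (∀ p : Ix, b1W.foldr (fun k q => gP (Fin.ofNat 11 k).val q) p = Equiv.Perm.sumCongr sB 1 p) ∧
    (∀ p : Ix, a2W.foldr (fun k q => gP (Fin.ofNat 11 k).val q) p = Equiv.Perm.sumCongr 1 sA p) ∧
    (∀ p : Ix, b2W.foldr (fun k q => gP (Fin.ofNat 11 k).val q) p = Equiv.Perm.sumCongr 1 sB p) ∧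
    (∀ p : Ix, swW.foldr (fun k q => gP (Fin.ofNat 11 k).val q) p = Equiv.sumComm (Fin 5) (Fin 5) p) := by
  decide +kernel

theorem wreath_le_range : alternatingFiveWreathTwo ≤ phi.range := by
  obtain ⟨t1, t2, t3, t4, t5⟩ := targets
  have hm : ∀ {L : List ℕ} {e : Equiv.Perm Ix},
      (∀ p, L.foldr (fun k q => gP (Fin.ofNat 11 k).val q) p = e p) → e ∈ phi.range := fun {L e} h =>
    ⟨gProd L, Equiv.ext fun p => (phi_gProd L p).trans (h p)⟩
  set H := phi.range.comap (Equiv.Perm.sumCongrHom (Fin 5) (Fin 5)) with hH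
  have hw : ∀ w, (evalA w, (1 : Equiv.Perm (Fin 5))) ∈ H ∧ ((1 : Equiv.Perm (Fin 5)), evalA w) ∈ H := by
    intro w
    induction w with
    | nil => exact ⟨H.one_mem, H.one_mem⟩
    | cons t w ih =>
      have e : evalA (t :: w) = cond t sB sA * evalA w := by rw [evalA, List.map_cons, List.prod_cons]; rfl
      rw [e]
      cases t
      · exact ⟨by simpa [Prod.mk_mul_mk] using H.mul_mem (show (sA, (1 : Equiv.Perm (Fin 5))) ∈ H from hm t1) ih.1,
          by simpa [Prod.mk_mul_mk] using H.mul_mem (show ((1 : Equiv.Perm (Fin 5)), sA) ∈ H from hm t3) ih.2⟩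
      · exact ⟨by simpa [Prod.mk_mul_mk] using H.mul_mem (show (sB, (1 : Equiv.Perm (Fin 5))) ∈ H from hm t2) ih.1,
          by simpa [Prod.mk_mul_mk] using H.mul_mem (show ((1 : Equiv.Perm (Fin 5)), sB) ∈ H from hm t4) ih.2⟩
  rw [alternatingFiveWreathTwo, Subgroup.closure_le]
  rintro g (⟨σ, τ, rfl⟩ | rfl)
  · obtain ⟨w, -, hσ⟩ := List.mem_map.mp (alt_words σ (Equiv.Perm.mem_alternatingGroup.mp σ.2))
    obtain ⟨v, -, hτ⟩ := List.mem_map.mp (alt_words τ (Equiv.Perm.mem_alternatingGroup.mp τ.2))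
    have := H.mul_mem (hw w).1 (hw v).2
    rw [Prod.mk_mul_mk, mul_one, one_mul, hσ, hτ] at this
    exact this
  · exact hm t5

/-! ### The wreath product -/

/-- The base and a choice of the swap. -/
noncomputable def wMap (x : (↥(alternatingGroup (Fin 5)) × ↥(alternatingGroup (Fin 5))) × Bool) :
    ↥alternatingFiveWreathTwo :=
  ⟨Equiv.Perm.sumCongr (x.1.1 : Equiv.Perm (Fin 5)) (x.1.2 : Equiv.Perm (Fin 5)) *
      cond x.2 (Equiv.sumComm (Fin 5) (Fin 5)) 1,
    mul_mem (Subgroup.subset_closure (Or.inl ⟨x.1.1, x.1.2, rfl⟩)) (by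
      cases x.2
      · exact one_mem _
      · exact Subgroup.subset_closure (Or.inr rfl))⟩

theorem wMap_injective : Function.Injective wMap := by
  rintro ⟨⟨σ, τ⟩, b⟩ ⟨⟨σ', τ'⟩, b'⟩ h
  have h' := congrArg Subtype.val h
  simp only [wMap] at h'
  have hl : ∀ i : Fin 5, _ := fun i => congrArg (fun g : Equiv.Perm Ix => g (Sum.inl i)) h'
  have hr : ∀ i : Fin 5, _ := fun i => congrArg (fun g : Equiv.Perm Ix => g (Sum.inr i)) h'
  cases b <;> cases b' <;> simp [Equiv.Perm.mul_apply] at hl hr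
  · have e1 : σ = σ' := Subtype.ext (Equiv.ext hl)
    have e2 : τ = τ' := Subtype.ext (Equiv.ext hr)
    rw [e1, e2]
  · have e1 : σ = σ' := Subtype.ext (Equiv.ext hr)
    have e2 : τ = τ' := Subtype.ext (Equiv.ext hl)
    rw [e1, e2]

theorem card_alt : Nat.card ↥(alternatingGroup (Fin 5)) = 60 := by
  rw [nat_card_alternatingGroup]
  simp [Nat.card_eq_fintype_card, Nat.factorial]

theorem card_wreath_ge : 7200 ≤ Nat.card ↥alternatingFiveWreathTwo := by
  refine le_trans ?_ (Nat.card_le_card_of_injective wMap wMap_injective)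
  rw [Nat.card_prod, Nat.card_prod, card_alt, Nat.card_eq_fintype_card (α := Bool), Fintype.card_bool]

theorem phi_facts : phi.range = alternatingFiveWreathTwo ∧
    phi.ker = (Subgroup.zpowers p5 ⊔ Subgroup.center ↥Co0).subgroupOf CC := by
  classical
  haveI := co0_finite
  set K := (Subgroup.zpowers p5 ⊔ Subgroup.center ↥Co0).subgroupOf CC
  have hKC : Subgroup.zpowers p5 ⊔ Subgroup.center ↥Co0 ≤ CC :=
    sup_le (Subgroup.zpowers_le.mpr p5_mem) fun g hg => mem_CC.mpr (Subgroup.mem_center_iff.mp hg p5).symm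
  have hle : K ≤ phi.ker := by
    show (Subgroup.zpowers p5 ⊔ Subgroup.center ↥Co0).subgroupOf CC ≤ phi.ker
    rw [Subgroup.subgroupOf_sup (Subgroup.zpowers_le.mpr p5_mem) fun g hg => mem_CC.mpr (Subgroup.mem_center_iff.mp hg p5).symm,
      sup_le_iff]
    constructor
    · intro g hg
      obtain ⟨n, hn⟩ := Subgroup.mem_zpowers_iff.mp hg
      have hp : (⟨p5, p5_mem⟩ : ↥CC) ∈ phi.ker := MonoidHom.mem_ker.mpr (phi_triv fun m hm => p5_fix (sub_mem_P hm))
      have : g = (⟨p5, p5_mem⟩ : ↥CC) ^ n := Subtype.ext (by rw [SubgroupClass.coe_zpow]; exact hn.symm)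
      rw [this]; exact zpow_mem hp n
    · intro g hg
      refine MonoidHom.mem_ker.mpr (phi_triv fun m _ => ?_)
      rcases center_eq hg with e | e
      · rw [Subgroup.subtype_apply] at e
        rw [e, one_smul]; exact Cg.refl' _
      · rw [Subgroup.subtype_apply] at e
        rw [e]
        refine Cg.symm' ⟨sub m, Subtype.ext ?_⟩
        rw [AddSubgroup.coe_sub, negAut_apply, sub_neg_eq_add]; rfl
  have h10 : 10 ≤ Nat.card ↥K := by
    rw [Nat.card_congr (Subgroup.subgroupOfEquivOfLe hKC).toEquiv]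
    have h5 : 5 ∣ Nat.card ↥(Subgroup.zpowers p5 ⊔ Subgroup.center ↥Co0) := by
      have := Subgroup.card_dvd_of_le (le_sup_left : Subgroup.zpowers p5 ≤ Subgroup.zpowers p5 ⊔ Subgroup.center ↥Co0)
      rwa [Nat.card_zpowers, order_p5] at this
    have h2 : 2 ∣ Nat.card ↥(Subgroup.zpowers p5 ⊔ Subgroup.center ↥Co0) := by
      have := Subgroup.card_dvd_of_le (le_sup_right : Subgroup.center ↥Co0 ≤ Subgroup.zpowers p5 ⊔ Subgroup.center ↥Co0)
      rwa [center_card] at this
    exact Nat.le_of_dvd Nat.card_pos (Nat.Coprime.mul_dvd_of_dvd_of_dvd (show Nat.Coprime 2 5 by norm_num) h2 h5)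
  have hidx := phi.ker.card_mul_index
  rw [Subgroup.index_ker] at hidx
  have h1 := Subgroup.card_le_of_le hle
  have h2 := CC_card
  have h3 := card_wreath_ge
  have h4 := Subgroup.card_le_of_le wreath_le_range
  have hr : Nat.card ↥phi.range ≤ 7200 := by nlinarith
  have hk : Nat.card ↥phi.ker ≤ 10 := by nlinarith
  exact ⟨(Subgroup.eq_of_le_of_card_ge wreath_le_range (hr.trans h3)).symm,
    (Subgroup.eq_of_le_of_card_ge hle (hk.trans h10)).symm⟩

/-- An element of the centraliser fixing all the classes is a power of the permutation up to sign. -/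
theorem CC_fix_small {g : ↥CC} (h : ∀ m < 256, Cg ((g : ↥Co0) • sub m) (sub m)) :
    (g : ↥Co0) ∈ Subgroup.zpowers p5 ⊔ Subgroup.center ↥Co0 := by
  have hk : g ∈ phi.ker := MonoidHom.mem_ker.mpr (phi_triv h)
  rwa [phi_facts.2] at hk

/-! ### No normal two-subgroup -/

theorem wreath_two_trivial (N : Subgroup (Equiv.Perm Ix)) (hN : N ≤ alternatingFiveWreathTwo)
    (hn : ∀ g ∈ alternatingFiveWreathTwo, ∀ x ∈ N, g * x * g⁻¹ ∈ N) (h2 : IsPGroup 2 ↥N) : N = ⊥ := by
  classical
  let ι : ↥(alternatingGroup (Fin 5)) × ↥(alternatingGroup (Fin 5)) →* Equiv.Perm Ix :=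
    (Equiv.Perm.sumCongrHom (Fin 5) (Fin 5)).comp ((alternatingGroup (Fin 5)).subtype.prodMap (alternatingGroup (Fin 5)).subtype)
  have hι : ∀ σ τ, ι (σ, τ) ∈ alternatingFiveWreathTwo := fun σ τ => Subgroup.subset_closure (Or.inl ⟨σ, τ, rfl⟩)
  have hinj : Function.Injective ι := by
    rintro ⟨a, b⟩ ⟨a', b'⟩ h
    have hp := Equiv.Perm.sumCongrHom_injective h
    simp only [MonoidHom.coe_prodMap, Prod.map_apply, Prod.mk.injEq, Subgroup.coe_subtype] at hp
    exact Prod.ext (Subtype.ext hp.1) (Subtype.ext hp.2)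
  set M := N.comap ι with hM
  have hMn : M.Normal := ⟨fun x hx g => by
    rw [hM, Subgroup.mem_comap, map_mul, map_mul, map_inv]
    exact hn _ (hι g.1 g.2) _ hx⟩
  have hM2 : IsPGroup 2 ↥M := h2.comap_of_injective ι hinj
  haveI : Fact (Nat.Prime 2) := ⟨Nat.prime_two⟩
  have hs : IsSimpleGroup ↥(alternatingGroup (Fin 5)) := inferInstance
  have proj : ∀ f : ↥(alternatingGroup (Fin 5)) × ↥(alternatingGroup (Fin 5)) →* ↥(alternatingGroup (Fin 5)),
      Function.Surjective f → M.map f = ⊥ := by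
    intro f hf
    rcases (Subgroup.Normal.map hMn f hf).eq_bot_or_eq_top with h | h
    · exact h
    · exfalso
      have h3 := hM2.map f
      rw [h] at h3
      obtain ⟨k, hk⟩ := h3.exists_card_eq
      rw [Subgroup.card_top, card_alt] at hk
      have : (3 : ℕ) ∣ 2 ^ k := ⟨20, by omega⟩
      have := (show Nat.Prime 3 by norm_num).dvd_of_dvd_pow this
      norm_num at this
  have hbase : ∀ σ τ, ι (σ, τ) ∈ N → σ = 1 ∧ τ = 1 := by
    intro σ τ h
    have h1 : σ ∈ M.map (MonoidHom.fst _ _) := ⟨(σ, τ), h, rfl⟩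
    have h2' : τ ∈ M.map (MonoidHom.snd _ _) := ⟨(σ, τ), h, rfl⟩
    rw [proj (MonoidHom.fst _ _) fun s => ⟨(s, 1), rfl⟩, Subgroup.mem_bot] at h1
    rw [proj (MonoidHom.snd _ _) fun s => ⟨(1, s), rfl⟩, Subgroup.mem_bot] at h2'
    exact ⟨h1, h2'⟩
  have hcard : Function.Surjective wMap := by
    refine ((Nat.bijective_iff_injective_and_card _).mpr ⟨wMap_injective, ?_⟩).2
    refine le_antisymm (Nat.card_le_card_of_injective wMap wMap_injective) ?_
    haveI := co0_finite
    have h1 := CC_card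
    have h3 := phi.ker.card_mul_index
    rw [Subgroup.index_ker, phi_facts.1] at h3
    have h10 : 10 ≤ Nat.card ↥phi.ker := by
      rw [phi_facts.2, Nat.card_congr (Subgroup.subgroupOfEquivOfLe (sup_le (Subgroup.zpowers_le.mpr p5_mem)
        fun g hg => mem_CC.mpr (Subgroup.mem_center_iff.mp hg p5).symm)).toEquiv]
      have h5 : 5 ∣ Nat.card ↥(Subgroup.zpowers p5 ⊔ Subgroup.center ↥Co0) := by
        have := Subgroup.card_dvd_of_le (le_sup_left : Subgroup.zpowers p5 ≤ Subgroup.zpowers p5 ⊔ Subgroup.center ↥Co0)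
        rwa [Nat.card_zpowers, order_p5] at this
      have h2 : 2 ∣ Nat.card ↥(Subgroup.zpowers p5 ⊔ Subgroup.center ↥Co0) := by
        have := Subgroup.card_dvd_of_le (le_sup_right : Subgroup.center ↥Co0 ≤ Subgroup.zpowers p5 ⊔ Subgroup.center ↥Co0)
        rwa [center_card] at this
      exact Nat.le_of_dvd Nat.card_pos (Nat.Coprime.mul_dvd_of_dvd_of_dvd (show Nat.Coprime 2 5 by norm_num) h2 h5)
    rw [Nat.card_prod, Nat.card_prod, card_alt, Nat.card_eq_fintype_card (α := Bool), Fintype.card_bool]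
    nlinarith
  rw [eq_bot_iff]
  intro x hx
  obtain ⟨⟨⟨σ, τ⟩, b⟩, hw⟩ := hcard ⟨x, hN hx⟩
  have hxe : x = ι (σ, τ) * cond b (Equiv.sumComm (Fin 5) (Fin 5)) 1 := (congrArg Subtype.val hw).symm
  cases b
  · rw [cond_false, mul_one] at hxe
    obtain ⟨e1, e2⟩ := hbase σ τ (hxe ▸ hx)
    rw [hxe, e1, e2, Subgroup.mem_bot]
    exact map_one ι
  · exfalso
    rw [cond_true] at hxe
    have hA : sA ∈ alternatingGroup (Fin 5) := Equiv.Perm.mem_alternatingGroup.mpr (by decide)
    set a : ↥(alternatingGroup (Fin 5)) := ⟨sA, hA⟩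
    have hy : ι (a, 1) * x * (ι (a, 1))⁻¹ * x⁻¹ ∈ N := N.mul_mem (hn _ (hι a 1) x hx) (N.inv_mem hx)
    have heq : ι (a, 1) * x * (ι (a, 1))⁻¹ * x⁻¹ = ι (a, τ * a⁻¹ * τ⁻¹) := by
      have hswap : ∀ s t : ↥(alternatingGroup (Fin 5)), (Equiv.sumComm (Fin 5) (Fin 5) : Equiv.Perm Ix) * ι (s, t) =
          ι (t, s) * Equiv.sumComm (Fin 5) (Fin 5) := fun s t => Equiv.ext fun q => by
        cases q <;> rfl
      have e : x * (ι (a, 1))⁻¹ = ι (σ, τ * a⁻¹) * Equiv.sumComm (Fin 5) (Fin 5) := by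
        rw [hxe, mul_assoc, ← map_inv, hswap, ← mul_assoc, ← map_mul]
        simp
      rw [mul_assoc (ι (a, 1)), e, hxe, mul_inv_rev, show ι (a, 1) * (ι (σ, τ * a⁻¹) * Equiv.sumComm (Fin 5) (Fin 5)) *
          ((Equiv.sumComm (Fin 5) (Fin 5) : Equiv.Perm Ix)⁻¹ * (ι (σ, τ))⁻¹) =
          ι (a, 1) * ι (σ, τ * a⁻¹) * (ι (σ, τ))⁻¹ by group, ← map_mul, ← map_inv, ← map_mul]
      simp [mul_assoc]
    rw [heq] at hy
    have := (hbase _ _ hy).1
    have h0 := congrArg (fun t : ↥(alternatingGroup (Fin 5)) => (t : Equiv.Perm (Fin 5)) 0) this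
    exact absurd h0 (show sA 0 ≠ (1 : Equiv.Perm (Fin 5)) 0 by decide)

end CfsgLib.MonsterQ.Five
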